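import Cfsg.Agent.Lib.Known.LacedInvol.Kill

/-!
# Reduction to an orthogonal cascade

Every involution of a Chevalley group of simply laced type in characteristic two is conjugate to
an element of the subgroup generated by the root subgroups of an orthogonal cascade.
-/

set_option autoImplicit false
set_option synthInstance.maxSize 4000

namespace CfsgLib.Chev.LacedInvol

open Cfsg.Lie

universe v

variable {D : ChevalleyDatum} {co : ℕ → ℕ → ℤ} {F : Type v} [Field F]

/-- The roots of the span of a list of fundamental roots. -/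
def inL (J : List ℕ) : Set ℕ := {j | j ∈ J}

/-- A word of fundamental reflections applied to a root index. -/
def act (D : ChevalleyDatum) (w : List ℕ) (s : ℕ) : ℕ := w.foldr (fun i r => D.reflectRoot i r) s

/-- A Weyl element carrying a fundamental root of `J` to `θ` and the positive roots of `J`
orthogonal to it into a smaller Levi subsystem centralised by `x_θ`. -/
structure Move (D : ChevalleyDatum) (co : ℕ → ℕ → ℤ) (J : List ℕ) (a θ : ℕ) (J' w : List ℕ) :
    Prop where
  word : ∀ i ∈ w, i ∈ J ∧ i < D.rank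
  image : act D w (D.simple a) = θ
  sub : ∀ i ∈ J', i ∈ J
  top : PosIn D co (inL J) θ
  orth : ∀ s < D.nroots, PosIn D co (inL J) s → D.cartan a s = 0 →
    PosIn D co (inL J') (act D w s)
  cent : ∀ s < D.nroots, InSub D co (inL J') s → s ≠ θ ∧ s ≠ D.neg θ ∧ D.commTerms θ s = []

/-- A certificate for the reduction to the cascade `K`. -/
structure Casc (D : ChevalleyDatum) (co : ℕ → ℕ → ℤ) (K : List ℕ) (st : List (List ℕ)) :
    Prop where
  full : List.range D.rank ∈ st
  step : ∀ J ∈ st, ∀ a ∈ J, a < D.rank → ∃ θ J' w, Move D co J a θ J' w ∧ θ ∈ K ∧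
    (J' = [] ∨ J' ∈ st) ∧ J'.length < J.length

variable (hF : Facts D co)
include hF

/-- The group elements of a word. -/
theorem exists_act {J : List ℕ} (w : List ℕ) (hw : ∀ i ∈ w, i ∈ J ∧ i < D.rank) :
    ∃ g ∈ rootClosure D F (InSub D co (inL J)), ∀ s < D.nroots,
      act D w s < D.nroots ∧ ∃ c : F, c ≠ 0 ∧
        ∀ t : F, g * xU D s t * g⁻¹ = xU D (act D w s) (c * t) := by
  induction w with
  | nil => exact ⟨1, Subgroup.one_mem _, fun s hs => ⟨hs, 1, one_ne_zero, fun t => by simp [act]⟩⟩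
  | cons i w ih =>
    obtain ⟨g, hg, hact⟩ := ih fun j hj => hw j (List.mem_cons_of_mem _ hj)
    obtain ⟨hiJ, hi⟩ := hw i (by simp)
    have hp := hF.simple_lt' hi
    have hJ := (hF.inSub_simple (J := inL J) hi).2 hiJ
    refine ⟨nS D F ⟨i, hi⟩ * g, Subgroup.mul_mem _ (hF.nU_mem
      (fun t => xU_mem_rootClosure (P := InSub D co (inL J)) hp hJ t)
      (fun t => xU_mem_rootClosure (P := InSub D co (inL J)) (hF.neg_lt hp) (hF.inSub_neg hp hJ) t)
      1) hg, fun s hs => ?_⟩
    obtain ⟨hs', c, hc, hgc⟩ := hact s hs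
    obtain ⟨e, he, hconj, -⟩ := hF.permAct_nS (F := F) ⟨i, hi⟩ ⟨_, hs'⟩
    refine ⟨hF.refl_lt i hi _ hs', e * c, mul_ne_zero he hc, fun t => ?_⟩
    rw [show nS D F ⟨i, hi⟩ * g * xU D s t * (nS D F ⟨i, hi⟩ * g)⁻¹ =
      nS D F ⟨i, hi⟩ * (g * xU D s t * g⁻¹) * (nS D F ⟨i, hi⟩)⁻¹ by group, hgc, hconj, hF.sP_val,
      mul_assoc]
    rfl

variable (hC : CommF.{v} D)
include hC

theorem commute_nil {r s : ℕ} (hr : r < D.nroots) (hs : s < D.nroots) (hne : s ≠ r)
    (hneg : s ≠ D.neg r) (h : D.commTerms r s = []) (t u : F) :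
    Commute (xU D r t) (xU D s u) := by
  show _ = _
  rw [hF.xU_comm hC hr hs hne hneg t u]
  simp [cwR, h, wU]

variable (hL : Laced D) [CharP F 2]
include hL

/-- A fundamental coordinate can be made nonzero. -/
theorem exists_simple (J : Set ℕ) : ∀ r, ∀ g ∈ rootClosure D F (PosIn D co J), g * g = 1 → g ≠ 1 →
    g ∈ rootClosure D F (r ≤ ·) → g ∉ rootClosure D F (r + 1 ≤ ·) →
    ∃ x ∈ rootClosure D F (InSub D co J), x * g * x⁻¹ ∈ rootClosure D F (PosIn D co J) ∧
      ∃ i < D.rank, i ∈ J ∧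
        x * g * x⁻¹ ∉ rootClosure D F (fun s => PosIn D co J s ∧ s ≠ D.simple i) := by
  intro r
  induction r using Nat.strong_induction_on with
  | _ r ih =>
    intro g hg hg2 h1 hge hnot
    by_cases hall : ∀ i < D.rank, i ∈ J →
        g ∈ rootClosure D F (fun s => PosIn D co J s ∧ s ≠ D.simple i)
    swap
    · push Not at hall
      obtain ⟨i, hi, hiJ, hn⟩ := hall
      exact ⟨1, Subgroup.one_mem _, by simpa using hg, i, hi, hiJ, by simpa using hn⟩
    obtain ⟨i, hiJ, hg', r', hr', hnot'⟩ := descend hF hC J hg h1 hall hge hnot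
    set n := nS D F i with hn
    set g' := n * g * n⁻¹ with hg'def
    have h1' : g' ≠ 1 := fun e => h1 (by
      rw [show g = n⁻¹ * g' * n by rw [hg'def]; group, e]; group)
    have hg2' : g' * g' = 1 := by
      rw [hg'def, show n * g * n⁻¹ * (n * g * n⁻¹) = n * (g * g) * n⁻¹ by group, hg2]; group
    obtain ⟨r'', hr''N, -, hge'', hnot''⟩ :=
      exists_first hF hC (fun s _ h => h.1) (posIn_closed hF hC J) hg' h1'
    have hlt : r'' < r := by
      by_contra hc
      exact hnot' (rootClosure_mono (fun s _ h => by omega) hge'')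
    obtain ⟨x, hx, hxg, rest⟩ := ih r'' hlt g' hg' hg2' h1' hge'' hnot''
    have hp := hF.simple_lt' i.isLt
    have hJ := (hF.inSub_simple (J := J) i.isLt).2 hiJ
    have hnmem : n ∈ rootClosure D F (InSub D co J) := hF.nU_mem
      (fun t => xU_mem_rootClosure (P := InSub D co J) hp hJ t)
      (fun t => xU_mem_rootClosure (P := InSub D co J) (hF.neg_lt hp) (hF.inSub_neg hp hJ) t) 1
    refine ⟨x * n, Subgroup.mul_mem _ hx hnmem, ?_⟩
    rw [show x * n * g * (x * n)⁻¹ = x * g' * x⁻¹ by rw [hg'def]; group]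
    exact ⟨hxg, rest⟩

/-- Every involution of the unipotent group of `J` is conjugate into the cascade. -/
theorem into_cascade {K : List ℕ} {st : List (List ℕ)} (hK : Casc D co K st) :
    ∀ n, ∀ J : List ℕ, J.length ≤ n → (J = [] ∨ J ∈ st) →
      ∀ u ∈ rootClosure D F (PosIn D co (inL J)), u * u = 1 →
        ∃ g ∈ rootClosure D F (InSub D co (inL J)),
          g * u * g⁻¹ ∈ rootClosure D F (fun s => s ∈ K ∧ PosIn D co (inL J) s) := by
  intro n
  induction n using Nat.strong_induction_on with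
  | _ n ih =>
    intro J hJn hJst u hu hu2
    by_cases h1 : u = 1
    · subst h1
      exact ⟨1, Subgroup.one_mem _, by simp⟩
    obtain ⟨r, hrN, hrP, hge, hnot⟩ :=
      exists_first hF hC (fun s _ h => h.1) (posIn_closed hF hC (inL J)) hu h1
    obtain ⟨x, hx, hxu, a, ha, haJ, hne⟩ := exists_simple hF hC hL (inL J) r u hu hu2 h1 hge hnot
    have hJ0 : J ≠ [] := fun e => by simp [inL, e] at haJ
    obtain ⟨θ, J', w, hM, hθK, hJ', hlen⟩ := hK.step J (hJst.resolve_left hJ0) a haJ ha
    set p := D.simple a with hp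
    obtain ⟨hpp, hpN⟩ := hF.simple_lt a ha
    obtain ⟨v, hv, c, hc, hsplit⟩ := hF.closure_split hC (A := PosIn D co (inL J))
      (Q₁ := fun s => PosIn D co (inL J) s ∧ s ≠ p) (Q₂ := (· = p))
      (fun s _ h => (em (s = p)).elim Or.inr fun h' => Or.inl ⟨h, h'⟩)
      (by
        rintro i hi rfl j hj ⟨hjP, -⟩
        refine ⟨pos_ne_neg hF hi hpp hjP.1, fun hne c hc => ⟨posIn_term hF hC hi hj
          ⟨hpp, (hF.inSub_simple ha).2 haJ⟩ hjP hc, ?_⟩⟩
        have := (hF.commTerms_lt hi hj hpp hjP.1 hc).2.1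
        omega) hxu
    obtain ⟨t, rfl⟩ : ∃ t, c = xU D p t :=
      (hF.mem_rootSubgroup_iff hpN).1 (by rw [hF.rootSubgroup_eq hpN]; exact hc)
    have ht : t ≠ 0 := fun e => hne (by
      rw [hsplit, e, hF.xU_zero hpN, mul_one]; exact hv)
    have hx2 : (v * xU D p t) * (v * xU D p t) = 1 := by
      rw [← hsplit, show x * u * x⁻¹ * (x * u * x⁻¹) = x * (u * u) * x⁻¹ by group, hu2]; group
    obtain ⟨y, hy, v', hv', hkill⟩ := kill hF hC hL (inL J) ha haJ ht D.nroots 0 (by simp) v
      (rootClosure_mono (fun s _ h => ⟨h.1, h.2, Or.inr (Nat.zero_le _)⟩) hv) hx2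
    -- move by the Weyl element
    obtain ⟨m, hm, hact⟩ := exists_act (F := F) hF (J := J) w hM.word
    obtain ⟨hθN, cθ, hcθ, hmp⟩ := hact p hpN
    rw [show act D w p = θ from hM.image] at hθN hmp
    set v'' := m * v' * m⁻¹ with hv''def
    have hv'' : v'' ∈ rootClosure D F (PosIn D co (inL J')) := by
      refine conj_closure (fun z hz => ?_) hv'
      obtain ⟨s, b, hs, ⟨hsP, hs0⟩, rfl⟩ := hz
      obtain ⟨hs', cs, -, hms⟩ := hact s hs
      rw [hms]
      exact xU_mem_rootClosure hs' (hM.orth s hs hsP hs0) _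
    -- the commuting part
    have hcomm : ∀ b : F, ∀ z ∈ rootClosure D F (InSub D co (inL J')), Commute (xU D θ b) z := by
      intro b z hz
      induction hz using Subgroup.closure_induction with
      | mem z hz =>
        obtain ⟨s, d, hs, hsP, rfl⟩ := hz
        obtain ⟨h1, h2, h3⟩ := hM.cent s hs hsP
        exact commute_nil hF hC hθN hs h1 h2 h3 b d
      | one => exact Commute.one_right _
      | mul _ _ _ _ h h' => exact h.mul_right h'
      | inv _ _ h => exact h.inv_right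
    set X := xU D θ (cθ * t) with hX
    have hXc : Commute X v'' := hcomm _ _ (rootClosure_mono (fun s _ h => h.2) hv'')
    have hu' : m * (y * (v * xU D p t) * y⁻¹) * m⁻¹ = v'' * X := by
      rw [hkill, hv''def, hX, ← hmp, ← hp]; group
    have hv2 : v'' * v'' = 1 := by
      have h2 : (v'' * X) * (v'' * X) = 1 := by
        rw [← hu', show m * (y * (v * xU D p t) * y⁻¹) * m⁻¹ * (m * (y * (v * xU D p t) * y⁻¹) * m⁻¹)
          = m * (y * ((v * xU D p t) * (v * xU D p t)) * y⁻¹) * m⁻¹ by group, hx2]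
        group
      rwa [show v'' * X * (v'' * X) = v'' * (X * v'') * X by group, hXc.eq,
        show v'' * (v'' * X) * X = v'' * v'' * (X * X) by group, xU_self hF hθN, mul_one] at h2
    obtain ⟨g, hg, hgv⟩ := ih (n - 1) (by
      have := List.length_pos_iff.2 hJ0; omega) J' (by omega) hJ' v'' hv'' hv2
    have hsub : ∀ s < D.nroots, InSub D co (inL J') s → InSub D co (inL J) s :=
      fun s _ h j hj hjJ => h j hj fun h' => hjJ (hM.sub j h')
    refine ⟨g * m * y * x, Subgroup.mul_mem _ (Subgroup.mul_mem _ (Subgroup.mul_mem _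
      (rootClosure_mono hsub hg) hm) hy) hx, ?_⟩
    have e : g * m * y * x * u * (g * m * y * x)⁻¹ = (g * v'' * g⁻¹) * X := by
      rw [show g * m * y * x * u * (g * m * y * x)⁻¹ =
        g * (m * (y * (x * u * x⁻¹) * y⁻¹) * m⁻¹) * g⁻¹ by group, hsplit, hu',
        show g * (v'' * X) * g⁻¹ = g * v'' * g⁻¹ * (g * X * g⁻¹) by group,
        ← (hcomm _ g hg).eq, mul_inv_cancel_right]
    rw [e]
    refine Subgroup.mul_mem _ (rootClosure_mono (fun s hs h => ⟨h.1, h.2.1, hsub s hs h.2.2⟩) hgv) ?_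
    exact xU_mem_rootClosure (P := fun s => s ∈ K ∧ PosIn D co (inL J) s) hθN ⟨hθK, hM.top⟩ _

/-- Every involution of the group is conjugate into the cascade. -/
theorem exists_conj_cascade [Finite F] {K : List ℕ} {st : List (List ℕ)} (hK : Casc D co K st)
    (hB : ∀ g ∈ D.group F, g * g = 1 → ∃ a ∈ D.group F, a * g * a⁻¹ ∈ D.posUnipotent F)
    {g : GL D.Idx F} (hg : g ∈ D.group F) (h2 : g * g = 1) :
    ∃ a ∈ D.group F, a * g * a⁻¹ ∈ rootClosure D F (· ∈ K) := by
  obtain ⟨a, ha, hau⟩ := hB g hg h2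
  rw [hF.posUnipotent_eq] at hau
  obtain ⟨b, hb, hbu⟩ := into_cascade hF hC hL hK _ (List.range D.rank) le_rfl (Or.inr hK.full)
    (a * g * a⁻¹) (rootClosure_mono (fun s _ hs => ⟨hs, fun j hj hjJ =>
      absurd (List.mem_range.2 hj) hjJ⟩) hau)
    (by rw [show a * g * a⁻¹ * (a * g * a⁻¹) = a * (g * g) * a⁻¹ by group, h2]; group)
  refine ⟨b * a, Subgroup.mul_mem _ ?_ ha, ?_⟩
  · rw [hF.group_eq]
    exact rootClosure_mono (fun _ _ _ => trivial) hb
  · rw [show b * a * g * (b * a)⁻¹ = b * (a * g * a⁻¹) * b⁻¹ by group]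
    exact rootClosure_mono (fun s _ h => h.1) hbu

end CfsgLib.Chev.LacedInvol
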