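import Cfsg.Agent.Lib.Chev.All
import Cfsg.Agent.Lib.Chev.CommG2

/-!
# Matrix identities and ranks in characteristic two from the tables

Products of root elements with parameter one are computed column by column as sets of coordinates.
-/

set_option autoImplicit false
set_option synthInstance.maxSize 4000

namespace CfsgLib.Chev.LacedInvol

open Cfsg.Lie CfsgLib.Chev.Table CfsgLib.Chev.PolyCheck
open scoped Matrix

universe v

/-- One letter applied to a vector, given by its coordinates. -/
def step (T : Tab) (r : ℕ) (L : List ℕ) : List ℕ :=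
  L.flatMap fun b => (List.range 4).flatMap fun k =>
    ((T.dpow r k b).filter fun q => decide (q.2 % 2 = 1)).map Prod.fst

/-- A word applied to a coordinate vector. -/
def col2 (T : Tab) (W : List ℕ) (b : ℕ) : List ℕ := W.foldr (step T) [b]

/-- The bit set of a vector. -/
def bits (L : List ℕ) : ℕ := L.foldr (fun i a => 2 ^ i ^^^ a) 0

/-- The sum of some bit sets. -/
def xorL (L : List ℕ) : ℕ := L.foldr (fun i a => i ^^^ a) 0

/-- Two words give the same matrix. -/
def wordEq (T : Tab) (V W : List ℕ) : Bool :=
  V.all (fun r => Nat.blt r T.nroots) && W.all (fun r => Nat.blt r T.nroots) &&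
    allBelow (T.rank + T.nroots) fun b => bits (col2 T V b) == bits (col2 T W b)

/-- The column `b` of the matrix of a word minus one. -/
def colM1 (T : Tab) (W : List ℕ) (b : ℕ) : ℕ := bits (col2 T W b) ^^^ 2 ^ b

/-- A certificate for the rank of a word minus one: a basis, its pivots, the expression of the
basis in the columns and of the columns in the basis. -/
structure RankCert where
  basis : List ℕ
  pivots : List ℕ
  cols : List (List ℕ)
  expr : List (List ℕ)

/-- The check of a rank certificate for the matrix with columns `f b`, `b < n`. -/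
def RankCert.okF (n : ℕ) (f : ℕ → ℕ) (c : RankCert) : Bool :=
  allBelow c.basis.length (fun j =>
    Nat.blt (c.pivots.getD j 0) n &&
    (c.cols.getD j []).all (fun b => Nat.blt b n) &&
    (c.basis.getD j 0 == xorL ((c.cols.getD j []).map f)) &&
    (c.basis.getD j 0).testBit (c.pivots.getD j 0) &&
    allBelow c.basis.length (fun i =>
      bif Nat.blt j i then !(c.basis.getD i 0).testBit (c.pivots.getD j 0) else true)) &&
  allBelow n fun b =>
    (c.expr.getD b []).all (fun j => Nat.blt j c.basis.length) &&
    (f b == xorL ((c.expr.getD b []).map fun j => c.basis.getD j 0))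

/-- The check of a rank certificate. -/
def RankCert.ok (T : Tab) (W : List ℕ) (c : RankCert) : Bool :=
  W.all (fun r => Nat.blt r T.nroots) && c.okF (T.rank + T.nroots) (colM1 T W)

section

variable {D : ChevalleyDatum} {F : Type v} [Field F] [CharP F 2]

/-- The vector of a bit set. -/
def toF (D : ChevalleyDatum) (F : Type v) [Field F] (m : ℕ) : D.Idx → F :=
  fun x => if m.testBit (enc D x) then 1 else 0

theorem toF_xor (a b : ℕ) : toF D F (a ^^^ b) = toF D F a + toF D F b := by
  funext x
  simp only [toF, Nat.testBit_xor, Pi.add_apply]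
  cases a.testBit (enc D x) <;> cases b.testBit (enc D x) <;> simp [CharTwo.add_self_eq_zero]

theorem toF_zero : toF D F 0 = 0 := by funext x; simp [toF]

theorem toF_two_pow (y : D.Idx) : toF D F (2 ^ enc D y) = Pi.single y 1 := by
  funext x
  rw [toF, Nat.testBit_two_pow, Pi.single_apply]
  by_cases h : x = y
  · subst h; simp
  · rw [if_neg h, if_neg]
    simp only [decide_eq_true_eq]
    exact fun e => h (enc_injective e.symm)

theorem toF_xorL (L : List ℕ) : toF D F (xorL L) = (L.map (toF D F)).sum := by
  induction L with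
  | nil => simp [xorL, toF_zero]
  | cons a L ih =>
    rw [show xorL (a :: L) = a ^^^ xorL L from rfl, toF_xor, ih, List.map_cons, List.sum_cons]

/-- A vector given by its coordinates. -/
def vecL (D : ChevalleyDatum) (F : Type v) [Field F] (L : List ℕ) : D.Idx → F :=
  fun x => (L.map fun i => if i = enc D x then (1 : F) else 0).sum

theorem toF_bits (L : List ℕ) : toF D F (bits L) = vecL D F L := by
  induction L with
  | nil => funext x; simp [bits, toF, vecL]
  | cons a L ih =>
    funext x
    rw [show bits (a :: L) = 2 ^ a ^^^ bits L from rfl, toF_xor, Pi.add_apply, ih]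
    simp [toF, vecL, Nat.testBit_two_pow]

/-- A vector as a list of monomials. -/
def emb (L : List ℕ) : List Mon := L.map fun i => ((i, 0, 0), 1)

theorem evalM_emb (L : List ℕ) : evalM D (1 : F) 1 (emb L) = vecL D F L := by
  funext x
  simp [evalM, emb, vecL, List.map_map, Function.comp_def]

variable {co : ℕ → ℕ → ℤ} {T : Tab} (hA : T.chkArrays D = true) (hCh : T.chkChain D = true)
  (hP : T.chkPairs = true)
include hA hCh hP

theorem step_spec {r : ℕ} (hr : r < D.nroots) (L : List ℕ) (hL : ∀ i ∈ L, i < D.rank + D.nroots) :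
    vecL D F (step T r L) = xR D r (1 : F) *ᵥ vecL D F L ∧
      ∀ i ∈ step T r L, i < D.rank + D.nroots := by
  have hE : ∀ p ∈ emb L, p.1.1 < D.rank + D.nroots := by
    intro p hp
    obtain ⟨i, hi, rfl⟩ := List.mem_map.1 hp
    exact hL i hi
  obtain ⟨h1, h2⟩ := evalM_act hA hCh hP (1 : F) 1 (r, 1, 0, 0) hr (emb L) hE
  refine ⟨?_, fun i hi => ?_⟩
  · rw [show xR D r (1 : F) = xR D r (par (1 : F) 1 ((r, 1, 0, 0) : Letter)) by simp [par],
      ← evalM_emb L, ← h1]
    funext x
    simp only [vecL, step, evalM, act, emb, List.map_flatMap, List.flatMap_map, List.map_map,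
      Function.comp_def, one_pow, mul_one, one_mul]
    simp only [List.flatMap_def, List.sum_flatten, List.map_map, Function.comp_def]
    refine congrArg List.sum (List.map_congr_left fun b _ => ?_)
    refine congrArg List.sum (List.map_congr_left fun k _ => ?_)
    generalize T.dpow r k b = Q
    induction Q with
    | nil => simp
    | cons q Q ih =>
      rw [List.filter_cons]
      by_cases hq : q.2 % 2 = 1
      · simp only [hq, decide_true, if_true, List.map_cons, List.sum_cons, ih]
        have : (q.2 : F) = 1 := by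
          obtain ⟨z, hz⟩ : ∃ z, q.2 = 2 * z + 1 := ⟨q.2 / 2, by omega⟩
          rw [hz]; push_cast; rw [CharTwo.two_eq_zero, zero_mul, zero_add]
        simp [this]
      · simp only [hq, decide_false, Bool.false_eq_true, if_false, List.map_cons, List.sum_cons, ih]
        have : (q.2 : F) = 0 := by
          obtain ⟨z, hz⟩ : ∃ z, q.2 = 2 * z := ⟨q.2 / 2, by omega⟩
          rw [hz]; push_cast; rw [CharTwo.two_eq_zero, zero_mul]
        simp [this]
  · simp only [step, List.mem_flatMap, List.mem_map, List.mem_filter] at hi
    obtain ⟨b, hb, k, hk, q, ⟨hq, -⟩, rfl⟩ := hi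
    exact bounded_dpow hA hP hr (hL b hb) k q hq

/-- A word as an element of the group. -/
theorem wordR_col (W : List ℕ) (hW : ∀ r ∈ W, r < D.nroots) (y : D.Idx) :
    toF D F (bits (col2 T W (enc D y))) =
        wR D (W.map fun r => (r, (1 : F))) *ᵥ Pi.single y 1 ∧
      ∀ i ∈ col2 T W (enc D y), i < D.rank + D.nroots := by
  induction W with
  | nil =>
    refine ⟨?_, fun i hi => ?_⟩
    · simp [col2, bits, wR_nil, toF_two_pow, Matrix.one_mulVec]
      funext x
      simp [Matrix.col, Matrix.one_apply, Pi.single_apply]
    · simp only [col2, List.foldr_nil, List.mem_singleton] at hi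
      subst hi
      exact enc_lt y
  | cons r W ih =>
    obtain ⟨h1, h2⟩ := ih fun v hv => hW v (List.mem_cons_of_mem _ hv)
    obtain ⟨h3, h4⟩ := step_spec (F := F) hA hCh hP (hW r (by simp)) _ h2
    refine ⟨?_, h4⟩
    rw [toF_bits] at h1
    rw [show col2 T (r :: W) (enc D y) = step T r (col2 T W (enc D y)) from rfl, toF_bits, h3, h1,
      List.map_cons, wR_cons, Matrix.mulVec_mulVec]

omit hA hCh hP in
omit [CharP F 2] in
theorem ones_val (hF : Facts D co) (W : List ℕ) (hW : ∀ r ∈ W, r < D.nroots) :
    (((W.map fun r => xU D r (1 : F)).prod : GL D.Idx F) : Matrix D.Idx D.Idx F) =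
      wR D (W.map fun r => (r, (1 : F))) := by
  induction W with
  | nil => simp [wR]
  | cons r W ih =>
    rw [List.map_cons, List.map_cons, List.prod_cons, Units.val_mul, wR_cons,
      ih fun v hv => hW v (List.mem_cons_of_mem _ hv), hF.xU_val' (hW r (by simp))]

theorem wordEq_spec (hF : Facts D co) {V W : List ℕ} (h : wordEq T V W = true) :
    (V.map fun r => xU D r (1 : F)).prod = (W.map fun r => xU D r (1 : F)).prod := by
  simp only [wordEq, Bool.and_eq_true, List.all_eq_true, Nat.blt_eq] at h
  obtain ⟨⟨hV, hW⟩, hb⟩ := h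
  have hn := nroots_eq hA
  have hl := rank_eq hA
  have hV' : ∀ r ∈ V, r < D.nroots := fun r hr => by rw [hn]; exact hV r hr
  have hW' : ∀ r ∈ W, r < D.nroots := fun r hr => by rw [hn]; exact hW r hr
  refine Units.ext (Matrix.ext_of_mulVec_single fun y => ?_)
  rw [ones_val hF V hV', ones_val hF W hW', ← (wordR_col hA hCh hP V hV' y).1,
    ← (wordR_col hA hCh hP W hW' y).1]
  have := allBelow_spec hb (enc D y) (by rw [← hl, ← hn]; exact enc_lt y)
  rw [beq_iff_eq] at this
  rw [this]

omit hA hCh hP in
/-- The rank of a matrix given by bit columns. -/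
theorem rank_of_okF (A : Matrix D.Idx D.Idx F) (f : ℕ → ℕ)
    (hcol : ∀ y, A.col y = toF D F (f (enc D y))) {c : RankCert}
    (h : c.okF (D.rank + D.nroots) f = true) : A.rank = c.basis.length := by
  simp only [RankCert.okF, Bool.and_eq_true] at h
  obtain ⟨hB, hE⟩ := h
  set v : Fin c.basis.length → D.Idx → F := fun j => toF D F (c.basis.getD j.val 0) with hv
  have hbasis : ∀ j < c.basis.length, ∃ y : D.Idx, c.pivots.getD j 0 = enc D y ∧
      (c.basis.getD j 0).testBit (enc D y) = true ∧
      (∀ i < c.basis.length, j < i → (c.basis.getD i 0).testBit (enc D y) = false) ∧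
      toF D F (c.basis.getD j 0) ∈ Submodule.span F (Set.range A.col) := by
    intro j hj
    have h1 := allBelow_spec hB j hj
    simp only [Bool.and_eq_true, Nat.blt_eq, beq_iff_eq] at h1
    obtain ⟨⟨⟨⟨hp, hc⟩, hx⟩, hbit⟩, hlow⟩ := h1
    obtain ⟨y, hy⟩ := exists_enc (D := D) (u := c.pivots.getD j 0) hp
    refine ⟨y, hy.symm, hy.symm ▸ hbit, fun i hi hji => ?_, ?_⟩
    · have h2 := allBelow_spec hlow i hi
      rw [show Nat.blt j i = true from by rw [Nat.blt_eq]; exact hji] at h2
      simpa [hy] using h2
    · rw [hx, toF_xorL, List.map_map]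
      refine list_sum_mem fun z hz => ?_
      obtain ⟨b, hb, rfl⟩ := List.mem_map.1 hz
      obtain ⟨w, hw⟩ := exists_enc (D := D) (u := b) (by
        have := List.all_eq_true.1 hc b hb
        rw [Nat.blt_eq] at this
        exact this)
      refine Submodule.subset_span ⟨w, ?_⟩
      rw [hcol, hw]
      rfl
  have hli : LinearIndependent F v := by
    rw [Fintype.linearIndependent_iff]
    intro g hg j
    induction j using WellFoundedLT.induction with
    | _ j ih =>
      obtain ⟨y, -, hy1, hy2, -⟩ := hbasis j.val j.isLt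
      have := congrFun hg y
      simp only [Finset.sum_apply, Pi.smul_apply, smul_eq_mul, Pi.zero_apply] at this
      rw [Finset.sum_eq_single j] at this
      · simpa only [hv, toF, hy1, if_true, mul_one] using this
      · intro i _ hij
        rcases lt_or_gt_of_ne hij with hlt | hlt
        · rw [ih i hlt, zero_mul]
        · simp only [hv, toF, hy2 i.val i.isLt hlt, Bool.false_eq_true, if_false, mul_zero]
      · simp
  have hspan : Submodule.span F (Set.range v) = Submodule.span F (Set.range A.col) := by
    refine le_antisymm (Submodule.span_le.2 ?_) (Submodule.span_le.2 ?_)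
    · rintro _ ⟨j, rfl⟩
      obtain ⟨-, -, -, -, hm⟩ := hbasis j.val j.isLt
      exact hm
    · rintro _ ⟨y, rfl⟩
      have h1 := allBelow_spec hE (enc D y) (enc_lt y)
      simp only [Bool.and_eq_true, beq_iff_eq] at h1
      rw [hcol, h1.2, toF_xorL, List.map_map]
      refine list_sum_mem fun z hz => ?_
      obtain ⟨j, hj, rfl⟩ := List.mem_map.1 hz
      have := List.all_eq_true.1 h1.1 j hj
      rw [Nat.blt_eq] at this
      exact Submodule.subset_span ⟨⟨j, this⟩, rfl⟩
  rw [Matrix.rank_eq_finrank_span_cols, ← hspan, finrank_span_eq_card hli, Fintype.card_fin]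


theorem rank_spec (hF : Facts D co) {W : List ℕ} {c : RankCert} (h : c.ok T W = true) :
    Matrix.rank ((((W.map fun r => xU D r (1 : F)).prod : GL D.Idx F) : Matrix D.Idx D.Idx F) - 1) =
      c.basis.length := by
  simp only [RankCert.ok, Bool.and_eq_true] at h
  obtain ⟨hW, hc⟩ := h
  have hn := nroots_eq hA
  have hl := rank_eq hA
  have hW' : ∀ r ∈ W, r < D.nroots := fun r hr => by
    have := List.all_eq_true.1 hW r hr
    rw [Nat.blt_eq] at this
    omega
  refine rank_of_okF _ (colM1 T W) (fun y => ?_) (by rw [hl, hn]; exact hc)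
  rw [colM1, toF_xor, toF_two_pow, (wordR_col hA hCh hP W hW' y).1, ← Matrix.mulVec_single_one,
    ones_val hF W hW', Matrix.sub_mulVec, Matrix.one_mulVec]
  funext x
  simp only [Pi.sub_apply, Pi.add_apply, CharTwo.sub_eq_add]

end

end CfsgLib.Chev.LacedInvol
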