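import Cfsg.Agent.Lib.Known.LacedInvol.Cascade
import Cfsg.Agent.Lib.Known.LacedInvol.Mat

/-!
# The hypotheses of the reduction as checks on the tables
-/

set_option autoImplicit false
set_option synthInstance.maxSize 4000

namespace CfsgLib.Chev.LacedInvol

open Cfsg.Lie CfsgLib.Chev.Table

/-- A word of fundamental reflections on the tables. -/
def actT (T : Tab) (w : List ℕ) (s : ℕ) : ℕ := w.foldr (fun i r => T.refl i r) s

/-- Membership in the span of a list of fundamental roots. -/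
def inSubT (T : Tab) (J : List ℕ) (s : ℕ) : Bool :=
  allBelow T.rank fun m => J.elem m || (T.co s m == 0)

/-- Membership in the positive roots of the span of a list of fundamental roots. -/
def posInT (T : Tab) (J : List ℕ) (s : ℕ) : Bool := Nat.ble (T.nroots / 2) s && inSubT T J s

/-- The chains of two commuting root elements are empty. -/
def commT (T : Tab) (r s : ℕ) : Bool :=
  !Nat.beq s r && !Nat.beq s (T.neg r) && (T.gen r s).isEmpty && (T.gen s r).isEmpty

/-- The simply laced conditions. -/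
def lacedT (T : Tab) : Bool :=
  allBelow T.rank fun i => allBelow T.nroots fun s => bif Nat.ble (T.nroots / 2) s then
    (Nat.beq s (T.smp i) || (T.aa i s == -1) || (T.aa i s == 0) || (T.aa i s == 1)) &&
    (bif T.aa i s == -1 then
      (match T.gen (T.smp i) s with
        | [c] => Nat.beq c.1 (T.refl i s) && decide (c.2 % 2 = 1)
        | _ => false) && (T.gen s (T.refl i s)).isEmpty
    else true) &&
    (bif (T.aa i s == 0) || (T.aa i s == 1) then (T.gen (T.smp i) s).isEmpty else true)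
  else true

/-- One move of the reduction. -/
abbrev MoveData : Type := ℕ × ℕ × List ℕ × List ℕ

/-- The check of a move. -/
def moveT (T : Tab) (J : List ℕ) (m : MoveData) : Bool :=
  let θ := m.2.1
  let J' := m.2.2.1
  let w := m.2.2.2
  w.all (fun i => J.elem i && Nat.blt i T.rank) &&
  Nat.beq (actT T w (T.smp m.1)) θ &&
  J'.all (fun i => J.elem i) &&
  Nat.blt θ T.nroots && posInT T J θ &&
  allBelow T.nroots (fun s =>
    (bif posInT T J s && (T.aa m.1 s == 0) then posInT T J' (actT T w s) else true) &&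
    (bif inSubT T J' s then commT T θ s else true))

/-- The check of a certificate for the cascade `K`. -/
def cascT (T : Tab) (K : List ℕ) (st : List (List ℕ × List MoveData)) : Bool :=
  (st.map Prod.fst).elem (List.range T.rank) &&
  st.all fun e =>
    allBelow T.rank (fun a => bif e.1.elem a then e.2.any (fun m => Nat.beq m.1 a) else true) &&
    e.2.all fun m => moveT T e.1 m && K.elem m.2.1 &&
      (m.2.2.1.isEmpty || (st.map Prod.fst).elem m.2.2.1) &&
      Nat.blt m.2.2.1.length e.1.length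

section

variable {D : ChevalleyDatum} {T : Tab} (hF : Facts D T.co) (hA : T.chkArrays D = true)
  (hCh : T.chkChain D = true)
include hF hA hCh

theorem actT_eq {w : List ℕ} (hw : ∀ i ∈ w, i < D.rank) {s : ℕ} (hs : s < D.nroots) :
    act D w s = actT T w s ∧ act D w s < D.nroots := by
  induction w with
  | nil => exact ⟨rfl, hs⟩
  | cons i w ih =>
    obtain ⟨h1, h2⟩ := ih fun j hj => hw j (List.mem_cons_of_mem _ hj)
    refine ⟨?_, hF.refl_lt i (hw i (by simp)) _ h2⟩
    show D.reflectRoot i (act D w s) = T.refl i (actT T w s)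
    rw [reflect_eq hA hCh (hw i (by simp)) h2, h1]

omit hF hCh in
theorem inSubT_iff {J : List ℕ} {s : ℕ} :
    inSubT T J s = true ↔ InSub D T.co (inL J) s := by
  have hl := rank_eq hA
  constructor
  · intro h m hm hmJ
    have := allBelow_spec h m (hl ▸ hm)
    simp only [Bool.or_eq_true, List.elem_eq_mem, decide_eq_true_eq, beq_iff_eq] at this
    exact this.resolve_left hmJ
  · intro h
    refine allBelow_of fun m hm => ?_
    simp only [Bool.or_eq_true, List.elem_eq_mem, decide_eq_true_eq, beq_iff_eq]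
    by_cases hmJ : m ∈ J
    · exact Or.inl hmJ
    · exact Or.inr (h m (hl ▸ hm) hmJ)

omit hF hCh in
theorem posInT_iff {J : List ℕ} {s : ℕ} :
    posInT T J s = true ↔ PosIn D T.co (inL J) s := by
  rw [posInT, Bool.and_eq_true, Nat.ble_eq, inSubT_iff hA, PosIn, nroots_eq hA]

omit hF in
theorem commTerms_one {r s : ℕ} (hr : r < D.nroots) (hs : s < D.nroots)
    (h1 : (T.gen r s).length ≤ 1) (h2 : (T.gen s r).length ≤ 1) :
    D.commTerms r s = (T.gen r s).map fun c => (c.1, c.2, 1, 1) := by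
  rw [commTerms_left (by rw [chainEntry_eq hA hCh hr hs]; omega)
    (by rw [chainEntry_eq hA hCh hs hr]; exact h2), chainEntry_eq hA hCh hr hs]
  match T.gen r s, h1 with
  | [], _ => rfl
  | [c], _ => simp
  | _ :: _ :: _, h => simp at h

theorem commT_spec {r s : ℕ} (hr : r < D.nroots) (hs : s < D.nroots) (h : commT T r s = true) :
    s ≠ r ∧ s ≠ D.neg r ∧ D.commTerms r s = [] := by
  simp only [commT, Bool.and_eq_true, Bool.not_eq_true', List.isEmpty_iff] at h
  obtain ⟨⟨⟨h1, h2⟩, h3⟩, h4⟩ := h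
  refine ⟨fun e => ?_, fun e => ?_, ?_⟩
  · rw [e] at h1; simp at h1
  · rw [neg_eq hA hr] at e; rw [e] at h2; simp at h2
  · rw [commTerms_one hA hCh hr hs (by simp [h3]) (by simp [h4]), h3]; rfl

theorem lacedT_spec {X : Aux} (hP : T.chkPairs = true) (hR : T.chkRoots = true)
    (hX : T.LacedPairs X) (hs : lacedT T = true) : Laced D := by
  have hn := nroots_eq hA
  have hl := rank_eq hA
  have len : ∀ r < D.nroots, D.nroots / 2 ≤ r → ∀ s < D.nroots, D.nroots / 2 ≤ s →
      (T.gen r s).length ≤ 1 := by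
    intro r hr _ s hs _
    rw [hn] at hr hs
    by_cases h0 : T.ent r s = 0
    · simp [gen_of_eq h0]
    · have hk : T.ent r s / 16 < T.nroots := hn ▸ (ent_spec hA hP (hn ▸ hr) (hn ▸ hs) h0).1
      have h1 : T.ent r (T.ent r s / 16) = 0 := ent_of_pr_ne hX hr hk (by
        rw [pr_step hA hP hR hr hs h0, pr_self hR hr, (pair_ne hX hr hs h0).1]; norm_num)
      simp [Tab.gen, Tab.go, beq_eq_false_iff_ne.2 h0, h1]
  have row : ∀ i < D.rank, ∀ s < D.nroots, D.nroots / 2 ≤ s →
      (s = T.smp i ∨ T.aa i s = -1 ∨ T.aa i s = 0 ∨ T.aa i s = 1) ∧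
      (T.aa i s = -1 → (∃ c : ℤ, c % 2 = 1 ∧ T.gen (T.smp i) s = [(T.refl i s, c)]) ∧
        T.gen s (T.refl i s) = []) ∧
      (T.aa i s = 0 ∨ T.aa i s = 1 → T.gen (T.smp i) s = []) := by
    intro i hi s hs' hsp
    have h1 := allBelow_spec (allBelow_spec hs i (hl ▸ hi)) s (hn ▸ hs')
    rw [show Nat.ble (T.nroots / 2) s = true from Nat.ble_eq ▸ hn ▸ hsp, cond_true] at h1
    simp only [Bool.and_eq_true, Bool.or_eq_true, beq_iff_eq, Nat.beq_eq] at h1
    obtain ⟨⟨ha, hb⟩, hc⟩ := h1
    refine ⟨by tauto, fun e => ?_, fun e => ?_⟩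
    · rw [beq_iff_eq.2 e, cond_true, Bool.and_eq_true, List.isEmpty_iff] at hb
      refine ⟨?_, hb.2⟩
      match hg : T.gen (T.smp i) s with
      | [] => simp [hg] at hb
      | [(u, c)] =>
        simp only [hg, Bool.and_eq_true, Nat.beq_eq, decide_eq_true_eq] at hb
        exact ⟨c, hb.1.2, by rw [hb.1.1]⟩
      | _ :: _ :: _ => simp [hg] at hb
    · have : (T.aa i s == 0 || T.aa i s == 1) = true := by simpa using e
      rw [this, cond_true, List.isEmpty_iff] at hc
      exact hc
  have short : ∀ i < D.rank, ∀ s < D.nroots, D.nroots / 2 ≤ s →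
      D.commTerms (D.simple i) s = (T.gen (T.smp i) s).map fun c => (c.1, c.2, 1, 1) := by
    intro i hi s hs' hsp
    obtain ⟨hp, hpN⟩ := hF.simple_lt i hi
    rw [simple_eq hA hi] at hp hpN ⊢
    exact commTerms_one hA hCh hpN hs' (len _ hpN hp _ hs' hsp) (len _ hs' hsp _ hpN hp)
  refine ⟨fun i hi s hs' hsp hne => ?_, fun i hi s hs' hsp e => ?_, fun i hi s hs' hsp e => ?_,
    fun i hi s hs' hsp e => ?_, fun r hr hrp s hs' hsp c hc => ?_⟩
  · rw [cartan_eq hA hi hs']
    exact (row i hi s hs' hsp).1.resolve_left (fun e => hne (by rw [e, simple_eq hA hi]))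
  · rw [cartan_eq hA hi hs'] at e
    obtain ⟨⟨c, hc, hg⟩, hg'⟩ := (row i hi s hs' hsp).2.1 e
    have hk := hF.refl_lt i hi s hs'
    have hne : s ≠ D.simple i := fun e' => by
      have := hF.cartan_simple hi
      rw [← e', cartan_eq hA hi hs', e] at this
      norm_num at this
    have hkp := hF.refl_pos i hi s hs' hsp hne
    refine ⟨⟨c, hc, ?_⟩, ?_⟩
    · rw [short i hi s hs' hsp, hg, reflect_eq hA hCh hi hs']; rfl
    · rw [reflect_eq hA hCh hi hs'] at hk hkp ⊢
      rw [commTerms_one hA hCh hs' hk (len _ hs' hsp _ hk hkp) (len _ hk hkp _ hs' hsp), hg']; rfl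
  · rw [cartan_eq hA hi hs'] at e
    rw [short i hi s hs' hsp, (row i hi s hs' hsp).2.2 (Or.inl e)]; rfl
  · rw [cartan_eq hA hi hs'] at e
    rw [short i hi s hs' hsp, (row i hi s hs' hsp).2.2 (Or.inr e)]; rfl
  · rw [commTerms_one hA hCh hr hs' (len r hr hrp s hs' hsp) (len s hs' hsp r hr hrp)] at hc
    obtain ⟨x, -, rfl⟩ := List.mem_map.1 hc
    exact ⟨rfl, rfl⟩

theorem cascT_spec {K : List ℕ} {st : List (List ℕ × List MoveData)} (h : cascT T K st = true) :
    Casc D T.co K (st.map Prod.fst) := by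
  have hn := nroots_eq hA
  have hl := rank_eq hA
  simp only [cascT, Bool.and_eq_true, List.elem_eq_mem, decide_eq_true_eq, List.all_eq_true] at h
  obtain ⟨hfull, hall⟩ := h
  refine ⟨hl ▸ hfull, fun J hJ a haJ ha => ?_⟩
  obtain ⟨e, he, rfl⟩ := List.mem_map.1 hJ
  obtain ⟨hcov, hmv⟩ := hall e he
  have h1 := allBelow_spec hcov a (hl ▸ ha)
  rw [decide_eq_true haJ, cond_true, List.any_eq_true] at h1
  obtain ⟨⟨b, θ, J', w⟩, hm, hb⟩ := h1
  rw [Nat.beq_eq] at hb
  subst hb
  obtain ⟨⟨⟨hmove, hθK⟩, hJ'⟩, hlen⟩ := hmv _ hm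
  simp only [Bool.or_eq_true, List.isEmpty_iff, decide_eq_true_eq] at hJ'
  rw [Nat.blt_eq] at hlen
  simp only [moveT, Bool.and_eq_true, List.all_eq_true, List.elem_eq_mem, decide_eq_true_eq,
    Nat.blt_eq, Nat.beq_eq] at hmove
  obtain ⟨⟨⟨⟨⟨hw, him⟩, hsub⟩, hθ⟩, htop⟩, hs⟩ := hmove
  have hw' : ∀ i ∈ w, i < D.rank := fun i hi => hl ▸ (hw i hi).2
  refine ⟨θ, J', w, ⟨fun i hi => ⟨(hw i hi).1, hw' i hi⟩, ?_, hsub, (posInT_iff hA).1 htop,
    fun s hsN hsP hs0 => ?_, fun s hsN hsP => ?_⟩, hθK, hJ', hlen⟩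
  · rw [(actT_eq hF hA hCh hw' (hF.simple_lt' ha)).1, simple_eq hA ha, him]
  · have h2 := allBelow_spec hs s (hn ▸ hsN)
    simp only [Bool.and_eq_true] at h2
    rw [cartan_eq hA ha hsN] at hs0
    have h3 := h2.1
    rw [(posInT_iff hA).2 hsP, show (T.aa b s == 0) = true by simpa using hs0, Bool.and_true,
      cond_true] at h3
    rw [(actT_eq hF hA hCh hw' hsN).1]
    exact (posInT_iff hA).1 h3
  · have h2 := allBelow_spec hs s (hn ▸ hsN)
    simp only [Bool.and_eq_true] at h2
    have h3 := h2.2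
    rw [(inSubT_iff hA).2 hsP, cond_true] at h3
    exact commT_spec hF hA hCh (hn ▸ hθ) hsN h3

end

end CfsgLib.Chev.LacedInvol
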