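import Cfsg.Agent.Lib.Known.LacedInvol.Check
import Cfsg.Agent.Lib.Known.ChevFieldInvolution

/-!
# Involution classes from the cascade

An element of the cascade subgroup is scaled by the torus to a product of root elements with
parameter one; Weyl words and fusion identities in a D₄ carry each such product to a representative,
and the ranks of the representatives minus one separate the classes.
-/

set_option autoImplicit false
set_option synthInstance.maxSize 4000

namespace CfsgLib.Chev.LacedInvol

open Cfsg.Lie CfsgLib.Chev.Table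

universe v

/-- A step of the reduction of a subset of the cascade. -/
inductive Red where
  /-- a Weyl word onto a representative -/
  | toRep (k : ℕ) (w : List ℕ)
  /-- the removal of a root of the image of the fixed quadruple under a Weyl word -/
  | fuse (w : List ℕ)

/-- The certificate. -/
structure ClassCert where
  K : List ℕ
  base : ℕ × List ℕ × List ℕ
  reps : List (List ℕ)
  moves : List (List ℕ × List MoveData)
  red : List (List ℕ × Red)
  ranks : List RankCert

/-- Pairwise commuting distinct roots. -/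
def pairT (T : Tab) : List ℕ → Bool
  | [] => true
  | r :: L => Nat.blt r T.nroots && L.all (fun s => commT T r s) && pairT T L

/-- The check of the cascade. -/
def orthT (T : Tab) (K : List ℕ) : Bool :=
  pairT T K && K.all (fun r => K.all fun s => (T.pr r s == bif Nat.beq r s then 2 else 0) &&
    (Nat.beq r s || commT T r s))

/-- The check of one fusion identity. -/
def fuseT (T : Tab) (f : ℕ × List ℕ × List ℕ) : Bool :=
  wordEq T (f.2.2 ++ f.1 :: f.2.1) (f.2.1 ++ f.2.2)

/-- The check of one step. -/
def redT (T : Tab) (C : ClassCert) (S : List ℕ) : Red → Bool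
  | .toRep k w => Nat.blt k C.reps.length && w.all (fun i => Nat.blt i T.rank) &&
      (S.map (actT T w)).isPerm (C.reps.getD k [])
  | .fuse w =>
      let q := actT T w C.base.1
      let rest := C.base.2.1.map (actT T w)
      let L := C.base.2.2.map (actT T w)
      let R := S.filter fun s => !(q :: rest).elem s
      w.all (fun i => Nat.blt i T.rank) && S.isPerm ((q :: rest) ++ R) &&
        R.all fun r => L.all fun l => commT T r l

/-- The check of all steps. -/
def redsT (T : Tab) (C : ClassCert) : Bool :=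
  C.K.sublists.all fun S => S.isEmpty || C.red.any fun e => (e.1 == S) && redT T C S e.2

/-- The check of the ranks. -/
def ranksT (T : Tab) (C : ClassCert) : Bool :=
  Nat.beq C.ranks.length C.reps.length &&
  allBelow C.reps.length (fun k =>
    pairT T (C.reps.getD k []) &&
      (C.ranks.getD k ⟨[], [], [], []⟩).ok T (C.reps.getD k []) &&
      !(C.ranks.getD k ⟨[], [], [], []⟩).basis.isEmpty &&
      allBelow C.reps.length fun j => Nat.beq j k ||
        !Nat.beq (C.ranks.getD j ⟨[], [], [], []⟩).basis.length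
          (C.ranks.getD k ⟨[], [], [], []⟩).basis.length)

/-- The checked hypotheses. -/
structure Checked (D : ChevalleyDatum) (T : Tab) (C : ClassCert) : Prop where
  facts : Facts D T.co
  arr : T.chkArrays D = true
  chain : T.chkChain D = true
  pairs : T.chkPairs = true
  roots : T.chkRoots = true
  lpairs : ∃ X, T.LacedPairs X
  laced : lacedT T = true
  casc : cascT T C.K C.moves = true
  orth : orthT T C.K = true
  fus : fuseT T C.base = true
  reds : redsT T C = true
  rks : ranksT T C = true

/-- The product of the root elements with parameter one. -/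
noncomputable def P (D : ChevalleyDatum) (F : Type v) [Field F] (S : List ℕ) : GL D.Idx F :=
  (S.map fun r => xU D r (1 : F)).prod

section

variable {D : ChevalleyDatum} {T : Tab} {C : ClassCert} {F : Type v} [Field F]

theorem P_mem (hF : Facts D T.co) {S : List ℕ} (hS : ∀ s ∈ S, s < D.nroots) :
    P D F S ∈ D.group F := by
  refine Subgroup.list_prod_mem _ fun x hx => ?_
  obtain ⟨r, hr, rfl⟩ := List.mem_map.1 hx
  rw [hF.group_eq]
  exact xU_mem_rootClosure (P := fun _ => True) (hS r hr) trivial _

variable (h : Checked D T C) (hC : CommF.{v} D) [CharP F 2]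
include h hC

omit hC [CharP F 2] in
theorem pair_spec {S : List ℕ} (hS : pairT T S = true) :
    (∀ s ∈ S, s < D.nroots) ∧
      S.Pairwise fun r s => s ≠ r ∧ s ≠ D.neg r ∧ D.commTerms r s = [] := by
  induction S with
  | nil => simp
  | cons r L ih =>
    simp only [pairT, Bool.and_eq_true, List.all_eq_true, Nat.blt_eq] at hS
    obtain ⟨⟨hr, hL⟩, hp⟩ := hS
    obtain ⟨h1, h2⟩ := ih hp
    have hr' : r < D.nroots := by rw [nroots_eq h.arr]; exact hr
    refine ⟨fun s hs => ?_, List.pairwise_cons.2 ⟨fun s hs =>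
      commT_spec h.facts h.arr h.chain hr' (h1 s hs) (hL s hs), h2⟩⟩
    rcases List.mem_cons.1 hs with rfl | hs'
    exacts [hr', h1 s hs']

theorem pair_commute {S : List ℕ} (hS : pairT T S = true) :
    (S.map fun r => xU D r (1 : F)).Pairwise Commute := by
  obtain ⟨h1, h2⟩ := pair_spec h hS
  rw [List.pairwise_map]
  exact h2.imp_of_mem fun ha hb ⟨e1, e2, e3⟩ =>
    commute_nil h.facts hC (h1 _ ha) (h1 _ hb) e1 e2 e3 1 1

theorem pairT_sublist {S L : List ℕ} (hS : S.Sublist L) (hL : pairT T L = true) :
    pairT T S = true := by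
  have _ := hC
  induction hS with
  | slnil => rfl
  | cons a _ ih => simp only [pairT, Bool.and_eq_true] at hL; exact ih hL.2
  | cons_cons a hs ih =>
    simp only [pairT, Bool.and_eq_true, List.all_eq_true] at hL ⊢
    exact ⟨⟨hL.1.1, fun s hs' => hL.1.2 s (hs.subset hs')⟩, ih hL.2⟩

theorem P_sq {S : List ℕ} (hS : pairT T S = true) : P D F S * P D F S = 1 := by
  induction S with
  | nil => simp [P]
  | cons r L ih =>
    obtain ⟨h1, h2⟩ := pair_spec h hS
    rw [List.pairwise_cons] at h2
    have hc : Commute (xU D r (1 : F)) (P D F L) := Commute.list_prod_right _ _ fun x hx => by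
      obtain ⟨s, hs, rfl⟩ := List.mem_map.1 hx
      obtain ⟨e1, e2, e3⟩ := h2.1 s hs
      exact commute_nil h.facts hC (h1 r (by simp)) (h1 s (List.mem_cons_of_mem _ hs)) e1 e2 e3 1 1
    have hP : P D F (r :: L) = xU D r (1 : F) * P D F L := by simp [P]
    simp only [pairT, Bool.and_eq_true] at hS
    rw [hP, mul_assoc, ← mul_assoc (P D F L), ← hc.eq, mul_assoc, ih hS.2, mul_one,
      xU_self h.facts (h1 r (by simp))]

/-- In characteristic two the fundamental monomial elements permute the root elements. -/
theorem exists_word (w : List ℕ) (hw : ∀ i ∈ w, i < D.rank) :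
    ∃ g ∈ D.group F, ∀ s < D.nroots, ∀ t : F, g * xU D s t * g⁻¹ = xU D (act D w s) t := by
  induction w with
  | nil => exact ⟨1, Subgroup.one_mem _, fun s _ t => by simp [act]⟩
  | cons i w ih =>
    obtain ⟨g, hg, hact⟩ := ih fun j hj => hw j (List.mem_cons_of_mem _ hj)
    have hi := hw i (by simp)
    obtain ⟨η, h1, -, h3⟩ := h.facts.exists_eta (F := F) hi
    have hn : nU D (D.simple i) (1 : F) ∈ D.group F := by
      rw [h.facts.group_eq]
      exact h.facts.nU_mem (fun u => xU_mem_rootClosure (P := fun _ => True) (h.facts.simple_lt' hi)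
        trivial u) (fun u => xU_mem_rootClosure (P := fun _ => True)
        (h.facts.neg_lt (h.facts.simple_lt' hi)) trivial u) 1
    refine ⟨_ * g, Subgroup.mul_mem _ hn hg, fun s hs t => ?_⟩
    obtain ⟨-, hs'⟩ := actT_eq h.facts h.arr h.chain (w := w)
      (fun j hj => hw j (List.mem_cons_of_mem _ hj)) hs
    rw [show nU D (D.simple i) (1 : F) * g * xU D s t * (nU D (D.simple i) (1 : F) * g)⁻¹ =
      nU D (D.simple i) (1 : F) * (g * xU D s t * g⁻¹) * (nU D (D.simple i) (1 : F))⁻¹ by group,
      hact s hs, h3 _ hs', mul_inv_cancel_right]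
    show xU D (D.reflectRoot i (act D w s)) _ = xU D (D.reflectRoot i (act D w s)) t
    rcases h1 _ hs' with e | e <;> simp [e, CharTwo.neg_eq]

theorem P_conj {g : GL D.Idx F} {w S : List ℕ} (hw : ∀ i ∈ w, i < D.rank)
    (hact : ∀ s < D.nroots, ∀ t : F, g * xU D s t * g⁻¹ = xU D (act D w s) t)
    (hS : ∀ s ∈ S, s < D.nroots) : g * P D F S * g⁻¹ = P D F (S.map (actT T w)) := by
  have _ := hC
  rw [← MulAut.conj_apply, P, map_list_prod, P, List.map_map, List.map_map]
  refine congrArg List.prod (List.map_congr_left fun s hs => ?_)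
  show MulAut.conj g (xU D s (1 : F)) = xU D (actT T w s) 1
  rw [MulAut.conj_apply, hact s (hS s hs),
    (actT_eq h.facts h.arr h.chain hw (hS s hs)).1]

/-- Conjugacy in the group. -/
def Conj (D : ChevalleyDatum) (F : Type v) [Field F] (g g' : GL D.Idx F) : Prop :=
  ∃ a ∈ D.group F, a * g * a⁻¹ = g'

omit h hC [CharP F 2] in
theorem Conj.trans {g g' g'' : GL D.Idx F} (h1 : Conj D F g g') (h2 : Conj D F g' g'') :
    Conj D F g g'' := by
  obtain ⟨a, ha, rfl⟩ := h1
  obtain ⟨b, hb, rfl⟩ := h2
  exact ⟨b * a, Subgroup.mul_mem _ hb ha, by group⟩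

/-- The reduction of the products over subsets of the cascade. -/
theorem P_to_rep : ∀ n, ∀ S : List ℕ, S.length ≤ n → S.Sublist C.K → S ≠ [] →
    ∃ k < C.reps.length, Conj D F (P D F S) (P D F (C.reps.getD k [])) := by
  have hn := nroots_eq h.arr
  intro n
  induction n with
  | zero => intro S hS _ h0; exact absurd (List.length_eq_zero_iff.1 (by omega)) h0
  | succ n ih =>
    intro S hSn hSK h0
    have h1 := List.all_eq_true.1 h.reds S (List.mem_sublists.2 hSK)
    rw [Bool.or_eq_true, List.isEmpty_iff] at h1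
    replace h1 := h1.resolve_left h0
    rw [List.any_eq_true] at h1
    obtain ⟨⟨S', R⟩, hR, hok⟩ := h1
    simp only [Bool.and_eq_true, beq_iff_eq] at hok
    obtain ⟨e', hok⟩ := hok
    rw [e'] at hR
    have hK : pairT T C.K = true := by
      have := h.orth
      rw [orthT, Bool.and_eq_true] at this
      exact this.1
    have hSp := pairT_sublist h hC hSK hK
    obtain ⟨hSN, -⟩ := pair_spec h hSp
    cases R with
    | toRep k w =>
      simp only [redT, Bool.and_eq_true, Nat.blt_eq, List.all_eq_true, List.isPerm_iff] at hok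
      obtain ⟨⟨hk, hw⟩, hperm⟩ := hok
      have hw' : ∀ i ∈ w, i < D.rank := fun i hi => by rw [rank_eq h.arr]; exact hw i hi
      obtain ⟨g, hg, hact⟩ := exists_word (F := F) h hC w hw'
      refine ⟨k, hk, g, hg, ?_⟩
      rw [P_conj h hC hw' hact hSN, P, P]
      refine List.Perm.prod_eq' (hperm.map _) ?_
      have e2 : (S.map (actT T w)).map (fun r => xU D r (1 : F)) =
          (S.map fun r => xU D r (1 : F)).map (MulAut.conj g) := by
        rw [List.map_map, List.map_map]
        refine List.map_congr_left fun s hs => ?_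
        show xU D (actT T w s) (1 : F) = MulAut.conj g (xU D s 1)
        rw [MulAut.conj_apply, hact s (hSN s hs),
          (actT_eq h.facts h.arr h.chain hw' (hSN s hs)).1]
      rw [e2, List.pairwise_map]
      exact (pair_commute h hC hSp).imp fun hc => hc.map _
    | fuse w =>
      simp only [redT, Bool.and_eq_true, List.all_eq_true, List.isPerm_iff, Nat.blt_eq] at hok
      obtain ⟨⟨hw, hperm⟩, hcomm⟩ := hok
      set q := actT T w C.base.1 with hqdef
      set rest := C.base.2.1.map (actT T w) with hrestdef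
      set L := C.base.2.2.map (actT T w) with hLdef
      set R := S.filter fun s => !(q :: rest).elem s with hRdef
      have hw' : ∀ i ∈ w, i < D.rank := fun i hi => by rw [rank_eq h.arr]; exact hw i hi
      obtain ⟨g, -, hact⟩ := exists_word (F := F) h hC w hw'
      have hword0 := wordEq_spec (F := F) h.arr h.chain h.pairs h.facts h.fus
      have hfb := h.fus
      simp only [fuseT, wordEq, Bool.and_eq_true, List.all_eq_true, Nat.blt_eq] at hfb
      have hB : ∀ s ∈ C.base.2.2 ++ C.base.1 :: C.base.2.1, s < D.nroots :=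
        fun s hs => by rw [hn]; exact hfb.1.1 s hs
      have hB' : ∀ s ∈ C.base.2.1 ++ C.base.2.2, s < D.nroots :=
        fun s hs => by rw [hn]; exact hfb.1.2 s hs
      have hqS : q ∈ S := hperm.mem_iff.2 (by simp)
      have hLN : ∀ l ∈ L, l < D.nroots := fun l hl => by
        obtain ⟨m, hm, rfl⟩ := List.mem_map.1 hl
        have := actT_eq h.facts h.arr h.chain hw' (hB m (List.mem_append_left _ hm))
        rw [← this.1]
        exact this.2
      have hword' : P D F (L ++ q :: rest) = P D F (rest ++ L) := by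
        have e := congrArg (fun z => g * z * g⁻¹) (show P D F (C.base.2.2 ++ C.base.1 :: C.base.2.1)
          = P D F (C.base.2.1 ++ C.base.2.2) from hword0)
        simp only [P_conj h hC hw' hact hB, P_conj h hC hw' hact hB'] at e
        simpa [hqdef, hrestdef, hLdef] using e
      set x := P D F L with hx
      have hxR : Commute x (P D F R) := by
        refine Commute.list_prod_left _ _ fun y hy => ?_
        obtain ⟨l, hl, rfl⟩ := List.mem_map.1 hy
        refine Commute.list_prod_right _ _ fun z hz => ?_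
        obtain ⟨r, hr, rfl⟩ := List.mem_map.1 hz
        have hrN := hSN r (List.mem_filter.1 hr).1
        obtain ⟨e1, e2, e3⟩ := commT_spec h.facts h.arr h.chain hrN (hLN l hl) (hcomm r hr l hl)
        exact (commute_nil h.facts hC hrN (hLN l hl) e1 e2 e3 1 1).symm
      have e1 : P D F S = P D F (q :: rest) * P D F R := by
        rw [P, List.Perm.prod_eq' (hperm.map _) (pair_commute h hC hSp), List.map_append,
          List.prod_append]
        rfl
      have hsub : (S.erase q).Sublist C.K := List.erase_sublist.trans hSK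
      have hlen : (S.erase q).length < S.length := by
        rw [List.length_erase_of_mem hqS]
        have := List.length_pos_of_mem hqS
        omega
      have e2 : x * P D F S * x⁻¹ = P D F (S.erase q) := by
        rw [e1, show x * (P D F (q :: rest) * P D F R) * x⁻¹ =
          x * P D F (q :: rest) * (P D F R * x⁻¹) by group,
          ← (hxR.inv_left).eq, ← mul_assoc, show x * P D F (q :: rest) = P D F rest * x by
            simp only [hx, P, ← List.prod_append, ← List.map_append]; exact hword',
          mul_inv_cancel_right]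
        have hp : (rest ++ R).Perm (S.erase q) :=
          ((hperm.erase q).trans (by simp)).symm
        rw [show P D F rest * P D F R = ((rest ++ R).map fun r => xU D r (1 : F)).prod by
          simp [P]]
        refine (List.Perm.prod_eq' (hp.map _).symm ?_).symm
        exact pair_commute h hC (pairT_sublist h hC hsub hK)
      by_cases he : S.erase q = []
      · exfalso
        have : P D F S = 1 := by
          have h3 : x * P D F S * x⁻¹ = 1 := by rw [e2, he]; simp [P]
          rwa [← MulAut.conj_apply, map_eq_one_iff _ (MulEquiv.injective _)] at h3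
        have hS1 : S = [q] := by
          have := List.length_erase_of_mem hqS
          rw [he] at this
          match S, hqS, this with
          | [a], hm, _ => simp only [List.mem_singleton] at hm; rw [hm]
          | _ :: _ :: _, _, hl => simp at hl
        rw [hS1] at this
        simp only [P, List.map_cons, List.map_nil, List.prod_cons, List.prod_nil, mul_one] at this
        exact one_ne_zero (h.facts.xU_eq_one (hSN q hqS) this)
      obtain ⟨k, hk, hconj⟩ := ih (S.erase q) (by omega) hsub he
      exact ⟨k, hk, Conj.trans ⟨x, P_mem h.facts hLN, e2⟩ hconj⟩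

variable [Finite F]

omit h hC in
theorem exists_sqrt (x : F) : ∃ y : F, y * y = x := by
  haveI := Fact.mk Nat.prime_two
  obtain ⟨y, hy⟩ := Finite.surjective_of_injective (frobenius F 2).injective x
  exact ⟨y, by rw [← sq]; exact hy⟩

/-- Scaling an element of the cascade subgroup. -/
theorem cascade_scale : ∀ L : List ℕ, L.Sublist C.K → ∀ g ∈ rootClosure D F (· ∈ L),
    ∃ S, S.Sublist L ∧ ∃ a ∈ D.group F, a * g * a⁻¹ = P D F S ∧
      ∀ r ∈ C.K, r ∉ L → ∀ t : F, Commute a (xU D r t) := by
  have hn := nroots_eq h.arr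
  have horth := h.orth
  rw [orthT, Bool.and_eq_true] at horth
  obtain ⟨hKN, hKp⟩ := pair_spec h horth.1
  have hK2 : ∀ r ∈ C.K, ∀ s ∈ C.K, r ≠ s →
      s ≠ r ∧ s ≠ D.neg r ∧ D.commTerms r s = [] := by
    intro r hr s hs hne
    have := List.all_eq_true.1 (List.all_eq_true.1 horth.2 r hr) s hs
    simp only [Bool.and_eq_true, Bool.or_eq_true, Nat.beq_eq] at this
    exact commT_spec h.facts h.arr h.chain (hKN r hr) (hKN s hs) (this.2.resolve_left hne)
  have hKc : ∀ r ∈ C.K, ∀ s ∈ C.K, r ≠ s → ∀ t u : F, Commute (xU D r t) (xU D s u) :=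
    fun r hr s hs hne t u => by
      obtain ⟨e1, e2, e3⟩ := hK2 r hr s hs hne
      exact commute_nil h.facts hC (hKN r hr) (hKN s hs) e1 e2 e3 t u
  have hpr : ∀ r ∈ C.K, ∀ s ∈ C.K, prE D r s = if r = s then 2 else 0 := by
    intro r hr s hs
    have := List.all_eq_true.1 (List.all_eq_true.1 horth.2 r hr) s hs
    rw [Bool.and_eq_true, beq_iff_eq] at this
    replace this := this.1
    have hset : Finset.range D.rank = (List.range T.rank).toFinset := by
      rw [List.toFinset_range, rank_eq h.arr]
    have e : prE D r s = T.pr r s := by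
      rw [prE, Tab.pr, hset, List.sum_toFinset _ List.nodup_range]
      refine congrArg List.sum (List.map_congr_left fun i hi => ?_)
      have hi' : i < D.rank := by rw [rank_eq h.arr]; exact List.mem_range.1 hi
      rw [cor_eq h.arr (hKN r hr) hi', cartan_eq h.arr hi' (hKN s hs)]
    rw [e, this]
    by_cases hrs : r = s
    · subst hrs; simp
    · simp [hrs, show Nat.beq r s = false from Bool.eq_false_iff.2 fun e => hrs (Nat.eq_of_beq_eq_true e)]
  intro L
  induction L with
  | nil =>
    intro _ g hg
    have : g = 1 := by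
      rw [← Subgroup.mem_bot]
      refine (Subgroup.closure_le _).2 ?_ hg
      rintro x ⟨s, t, -, hs, rfl⟩
      simp at hs
    exact ⟨[], List.Sublist.slnil, 1, Subgroup.one_mem _, by simp [this, P],
      fun _ _ _ _ => Commute.one_left _⟩
  | cons r L ih =>
    intro hLK g hg
    have hrK : r ∈ C.K := hLK.subset (by simp)
    have hLK' : L.Sublist C.K := (List.sublist_cons_self r L).trans hLK
    have hrN := hKN r hrK
    have hrL : r ∉ L := by
      have hnd : (r :: L).Nodup := hLK.nodup (hKp.imp fun e => e.1.symm)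
      exact (List.nodup_cons.1 hnd).1
    obtain ⟨v, hv, c, hc, rfl⟩ := h.facts.closure_split hC (A := (· ∈ r :: L)) (Q₁ := (· ∈ L))
      (Q₂ := (· = r)) (fun s _ hs => (List.mem_cons.1 hs).symm)
      (by
        rintro i hi rfl j hj hjL
        have hne : j ≠ i := fun e => hrL (e ▸ hjL)
        obtain ⟨h1, h2, h3⟩ := hK2 i hrK j (hLK'.subset hjL) hne.symm
        exact ⟨h2, fun _ c hc => by simp [h3] at hc⟩) hg
    obtain ⟨t, rfl⟩ : ∃ t, c = xU D r t :=
      (h.facts.mem_rootSubgroup_iff hrN).1 (by rw [h.facts.rootSubgroup_eq hrN]; exact hc)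
    obtain ⟨S, hS, a, ha, hav, hfix⟩ := ih hLK' v hv
    have hafix := hfix r hrK hrL t
    by_cases ht : t = 0
    · subst ht
      refine ⟨S, hS.trans (List.sublist_cons_self r L), a, ha, ?_, fun s hs hsL => hfix s hs
        fun h' => hsL (List.mem_cons_of_mem _ h')⟩
      rw [h.facts.xU_zero hrN, mul_one, hav]
    obtain ⟨l, hl⟩ := exists_sqrt (F := F) t⁻¹
    have hl0 : l ≠ 0 := fun e => ht (inv_eq_zero.1 (by rw [← hl, e, mul_zero]))
    set z := hU D r ((Units.mk0 l hl0 : Fˣ) : F) with hz
    have hzmem : z ∈ D.group F :=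
      h.facts.diagonal_le_group (h.facts.hU_mem_diagonal hrN (Units.ne_zero _))
    have hzfix : ∀ s ∈ C.K, r ≠ s → ∀ u : F, Commute z (xU D s u) := by
      intro s hs hne u
      have := h.facts.hU_conj_xU hrN (hKN s hs) (Units.mk0 l hl0) u
      rw [hpr r hrK s hs, if_neg hne, zpow_zero, Units.val_one, one_mul] at this
      show _ = _
      rwa [← mul_inv_eq_iff_eq_mul]
    have hzr : z * xU D r t * z⁻¹ = xU D r 1 := by
      rw [hz, h.facts.hU_conj_xU hrN hrN, hpr r hrK r hrK, if_pos rfl, zpow_two, Units.val_mul,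
        Units.val_mk0, hl, inv_mul_cancel₀ ht]
    have hSK : S.Sublist C.K := hS.trans hLK'
    have hzS : Commute z (P D F S) := Commute.list_prod_right _ _ fun y hy => by
      obtain ⟨s, hs, rfl⟩ := List.mem_map.1 hy
      exact hzfix s (hSK.subset hs) (fun e => hrL (e ▸ hS.subset hs)) _
    have hrS : Commute (P D F S) (xU D r (1 : F)) := Commute.list_prod_left _ _ fun y hy => by
      obtain ⟨s, hs, rfl⟩ := List.mem_map.1 hy
      exact hKc s (hSK.subset hs) r hrK (fun e => hrL (e ▸ hS.subset hs)) _ _
    refine ⟨r :: S, hS.cons_cons r, z * a, Subgroup.mul_mem _ hzmem ha, ?_, fun s hs hsL u => ?_⟩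
    · rw [show z * a * (v * xU D r t) * (z * a)⁻¹ =
        z * (a * v * a⁻¹ * (a * xU D r t * a⁻¹)) * z⁻¹ by group, hav, hafix.eq,
        mul_inv_cancel_right, show z * (P D F S * xU D r t) * z⁻¹ =
          z * P D F S * z⁻¹ * (z * xU D r t * z⁻¹) by group, hzS.eq, mul_inv_cancel_right, hzr,
        hrS.eq]
      simp [P]
    · exact (hzfix s hs (fun e => hsL (by simp [e])) u).mul_left
        (hfix s hs (fun h' => hsL (List.mem_cons_of_mem _ h')) u)

/-- Every involution is conjugate to a representative. -/
theorem exists_rep {g : GL D.Idx F} (hg : g ∈ D.group F) (h2 : orderOf g = 2) :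
    ∃ k < C.reps.length, Conj D F g (P D F (C.reps.getD k [])) := by
  have hF := h.facts
  obtain ⟨X, hX⟩ := h.lpairs
  have hL := lacedT_spec hF h.arr h.chain h.pairs h.roots hX h.laced
  haveI := Fintype.ofFinite F
  haveI := Fact.mk Nat.prime_two
  have hg2 : g * g = 1 := by rw [← sq, ← h2, pow_orderOf_eq_one]
  have hB : ∀ g ∈ D.group F, g * g = 1 → ∃ a ∈ D.group F, a * g * a⁻¹ ∈ D.posUnipotent F := by
    intro g hg hgg
    obtain ⟨Q, hQ⟩ := (BNSteinberg.split hF hC 2 (K := F)).exists_sylow
    set x : ↥(D.group F) := ⟨g, hg⟩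
    have hx : x ^ 2 = 1 := Subtype.ext (by rw [sq]; exact hgg)
    have hP : IsPGroup 2 ↥(Subgroup.zpowers x) := by
      rintro ⟨y, hy⟩
      obtain ⟨k, rfl⟩ := Subgroup.mem_zpowers_iff.1 hy
      refine ⟨1, Subtype.ext ?_⟩
      rw [SubmonoidClass.coe_pow, ← zpow_natCast, ← zpow_mul, mul_comm, zpow_mul, zpow_natCast,
        pow_one, hx, one_zpow]
      rfl
    obtain ⟨S, hS⟩ := hP.exists_le_sylow
    obtain ⟨a, ha⟩ := MulAction.exists_smul_eq ↥(D.group F) S Q
    have hax : a * x * a⁻¹ ∈ (Q : Subgroup ↥(D.group F)) := by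
      rw [← ha, Sylow.coe_subgroup_smul]
      exact ⟨x, hS (Subgroup.mem_zpowers x), rfl⟩
    rw [hQ] at hax
    exact ⟨a, a.2, Subgroup.mem_subgroupOf.1 hax⟩
  obtain ⟨a, ha, hag⟩ := exists_conj_cascade hF hC hL (cascT_spec hF h.arr h.chain h.casc) hB hg hg2
  obtain ⟨S, hS, b, hb, hbe, -⟩ := cascade_scale h hC C.K (List.Sublist.refl _) _ hag
  have hS0 : S ≠ [] := by
    intro e
    rw [e] at hbe
    have h1 : a * g * a⁻¹ = 1 := by
      have := hbe
      simp only [P, List.map_nil, List.prod_nil] at this
      rwa [← MulAut.conj_apply, map_eq_one_iff _ (MulEquiv.injective _)] at this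
    rw [← MulAut.conj_apply, map_eq_one_iff _ (MulEquiv.injective _)] at h1
    rw [h1, orderOf_one] at h2
    omega
  obtain ⟨k, hk, hc⟩ := P_to_rep (F := F) h hC _ S le_rfl hS hS0
  exact ⟨k, hk, Conj.trans ⟨a, ha, rfl⟩ (Conj.trans ⟨b, hb, hbe⟩ hc)⟩

theorem rep_spec {k : ℕ} (hk : k < C.reps.length) :
    P D F (C.reps.getD k []) ∈ D.group F ∧ orderOf (P D F (C.reps.getD k [])) = 2 ∧
      Matrix.rank (((P D F (C.reps.getD k []) : GL D.Idx F) : Matrix D.Idx D.Idx F) - 1) =
        (C.ranks.getD k ⟨[], [], [], []⟩).basis.length := by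
  have hr := h.rks
  rw [ranksT, Bool.and_eq_true] at hr
  have h1 := allBelow_spec hr.2 k hk
  simp only [Bool.and_eq_true] at h1
  obtain ⟨⟨⟨hp, hok⟩, hne⟩, -⟩ := h1
  have hrank := rank_spec (F := F) h.arr h.chain h.pairs h.facts hok
  refine ⟨P_mem h.facts (pair_spec h hp).1, ?_, hrank⟩
  haveI := Fact.mk Nat.prime_two
  refine orderOf_eq_prime (by rw [sq]; exact P_sq h hC hp) fun e => ?_
  rw [show (C.reps.getD k [] |>.map fun r => xU D r (1 : F)).prod = P D F (C.reps.getD k []) from rfl,
    e, Units.val_one, sub_self, Matrix.rank_zero] at hrank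
  rw [Bool.not_eq_true', List.isEmpty_eq_false_iff] at hne
  exact hne (List.length_eq_zero_iff.1 hrank.symm)

/-- Distinct representatives are not conjugate. -/
theorem rep_inj {j k : ℕ} (hj : j < C.reps.length) (hk : k < C.reps.length)
    (hc : Conj D F (P D F (C.reps.getD j [])) (P D F (C.reps.getD k []))) : j = k := by
  obtain ⟨a, -, e⟩ := hc
  obtain ⟨-, -, r1⟩ := rep_spec (F := F) h hC hj
  obtain ⟨-, -, r2⟩ := rep_spec (F := F) h hC hk
  set y := P D F (C.reps.getD j []) with hy
  have e2 : ((a * y * a⁻¹ : GL D.Idx F) : Matrix D.Idx D.Idx F) - 1 =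
      (a : Matrix D.Idx D.Idx F) * ((y : Matrix D.Idx D.Idx F) - 1) *
        ((a⁻¹ : GL D.Idx F) : Matrix D.Idx D.Idx F) := by
    rw [Matrix.mul_sub, Matrix.sub_mul, mul_one, ← Units.val_mul, ← Units.val_mul, ← Units.val_mul,
      mul_inv_cancel, Units.val_one]
  have hdet : ∀ u : GL D.Idx F, IsUnit ((u : Matrix D.Idx D.Idx F).det) := fun u =>
    (Matrix.isUnit_iff_isUnit_det _).1 ⟨u, rfl⟩
  have := congrArg Matrix.rank e2
  rw [e, r2, Matrix.rank_mul_eq_left_of_isUnit_det _ _ (hdet _),
    Matrix.rank_mul_eq_right_of_isUnit_det _ _ (hdet _), r1] at this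
  have hr := h.rks
  rw [ranksT, Bool.and_eq_true] at hr
  have h1 := allBelow_spec hr.2 k hk
  simp only [Bool.and_eq_true] at h1
  have h2 := allBelow_spec h1.2 j hj
  simp only [Bool.or_eq_true, Bool.not_eq_true', Nat.beq_eq] at h2
  rcases h2 with h2 | h2
  · exact h2
  · rw [← this] at h2; simp at h2

omit h hC [CharP F 2] [Finite F] in
theorem ncard_of_reps {G : Type*} [Group G] {n : ℕ} (f : Fin n → G) (ho : ∀ k, orderOf (f k) = 2)
    (hall : ∀ g : G, orderOf g = 2 → ∃ k, IsConj g (f k))
    (hinj : ∀ j k, IsConj (f j) (f k) → j = k) :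
    (ConjClasses.mk '' {g : G | orderOf g = 2}).ncard = n := by
  have hset : ConjClasses.mk '' {g : G | orderOf g = 2} =
      Set.range fun k => ConjClasses.mk (f k) := by
    ext c
    constructor
    · rintro ⟨g, hg, rfl⟩
      obtain ⟨k, hk⟩ := hall g hg
      exact ⟨k, (ConjClasses.mk_eq_mk_iff_isConj.2 hk).symm⟩
    · rintro ⟨k, rfl⟩
      exact ⟨f k, ho k, rfl⟩
  rw [hset, Set.ncard_range_of_injective, Nat.card_fin]
  exact fun j k e => hinj j k (ConjClasses.mk_eq_mk_iff_isConj.1 e)

/-- The number of classes. -/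
theorem ncard_classes :
    (ConjClasses.mk '' {g : ↥(D.group F) | orderOf g = 2}).ncard = C.reps.length := by
  refine ncard_of_reps (G := ↥(D.group F))
    (fun k : Fin C.reps.length =>
      ⟨P D F (C.reps.getD k.val []), (rep_spec (F := F) h hC k.isLt).1⟩)
    (fun k => ?_) (fun g hg => ?_) (fun j k e => ?_)
  · rw [← Subgroup.orderOf_coe]
    exact (rep_spec (F := F) h hC k.isLt).2.1
  · obtain ⟨k, hk, a, ha, e⟩ := exists_rep (F := F) h hC g.2
      (by rw [Subgroup.orderOf_coe]; exact hg)
    exact ⟨⟨k, hk⟩, isConj_iff.2 ⟨⟨a, ha⟩, Subtype.ext e⟩⟩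
  · obtain ⟨a, ha⟩ := isConj_iff.1 e
    exact Fin.ext (rep_inj (F := F) h hC j.isLt k.isLt ⟨a, a.2, congrArg Subtype.val ha⟩)

end

end CfsgLib.Chev.LacedInvol
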