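import Cfsg.Agent.Lib.Known.LacedInvol.E8Data

/-!
# The checks for E8
-/

set_option autoImplicit false
set_option maxRecDepth 20000
set_option Elab.async false

namespace CfsgLib.Chev.LacedInvol.E8Invol

open Cfsg.Lie CfsgLib.Chev.Table

theorem chk_laced : lacedT DataE8.tab = true := by decide +kernel

theorem chk_casc : cascT DataE8.tab cert.K cert.moves = true := by decide +kernel

theorem chk_orth : orthT DataE8.tab cert.K = true := by decide +kernel

theorem chk_fus : fuseT DataE8.tab cert.base = true := by decide +kernel

theorem chk_reds : redsT DataE8.tab cert = true := by decide +kernel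

theorem chk_ranks : ranksT DataE8.tab cert = true := by decide +kernel

/-- The checked certificate. -/
theorem checked : Checked chevE8 DataE8.tab cert :=
  ⟨DataE8.facts, DataE8.chk_arrays, DataE8.chk_chain, DataE8.chk_pairs, DataE8.chk_roots,
    ⟨_, DataE8.laced_pairs⟩, chk_laced,
    chk_casc, chk_orth, chk_fus, chk_reds, chk_ranks⟩

end CfsgLib.Chev.LacedInvol.E8Invol
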