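import Cfsg.Agent.Lib.Known.LacedInvol.Reduce

/-!
# Removing the coordinates not orthogonal to a fundamental root

For an involution `v * x_p(t)` with `t ≠ 0` the coordinates in every `p`-string of length two can be
removed by conjugation, since the lower one has to vanish and the upper one is a commutator with
`x_p(t)`.
-/

set_option autoImplicit false
set_option synthInstance.maxSize 4000

namespace CfsgLib.Chev.LacedInvol

open Cfsg.Lie

universe v

variable {D : ChevalleyDatum} {co : ℕ → ℕ → ℤ} {F : Type v} [Field F]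
variable (hF : Facts D co) (hC : CommF.{v} D) (hL : Laced D)
include hF hC hL

omit hC hL in
theorem pos_ne_neg {r s : ℕ} (hr : r < D.nroots) (hrp : D.nroots / 2 ≤ r)
    (hsp : D.nroots / 2 ≤ s) : s ≠ D.neg r := fun e => by
  have := (hF.neg_lt_half hr).not.2 (by omega)
  omega

/-- The lower ends of the strings add up. -/
theorem low_lt (J : Set ℕ) {i : ℕ} (hi : i < D.rank) (hiJ : i ∈ J) {a b : ℕ} (ha : a < D.nroots)
    (hb : b < D.nroots) (haP : PosIn D co J a) (hane : a ≠ D.simple i) (hbP : PosIn D co J b)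
    (hbne : b ≠ D.simple i) {c : ℕ × ℤ × ℕ × ℕ} (hc : c ∈ D.commTerms a b) (hab : a ≠ b)
    (hc0 : D.cartan i c.1 ≠ 0) : low D i a < low D i c.1 := by
  obtain ⟨hc1, -, -, -⟩ := co_term hF hC ha hb hc
  have hcP := posIn_term hF hC ha hb haP hbP hc
  have hcne : c.1 ≠ D.simple i :=
    (ne_simple_closed hF hC J hi a ha ⟨haP, hane⟩ b hb ⟨hbP, hbne⟩ hab c hc).2
  obtain ⟨j1, j2⟩ := hL.term_one a ha haP.1 b hb hbP.1 c hc
  have hcar := (hF.commTerms_wt (hF.isWeight_cartan hi) ha hb hc).2.2.2
  have hom := (hF.commTerms_wt hF.isWeight_omega ha hb hc).2.2.2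
  simp only [j1, j2, one_smul] at hcar hom
  obtain ⟨la, -, -, -, oa⟩ := low_spec hF hC hL hi hiJ ha haP hane
  obtain ⟨lb, hlb, -, -, ob⟩ := low_spec hF hC hL hi hiJ hb hbP hbne
  obtain ⟨lc, -, -, -, oc⟩ := low_spec hF hC hL hi hiJ hc1 hcP hcne
  have pb := hF.omega_pos lb hlb.1
  have hsum : omega D co (low D i c.1) = omega D co (low D i a) + omega D co (low D i b) := by
    rw [oc, oa, ob, hom]
    rcases hL.cartan_small i hi a ha haP.1 hane with e1 | e1 | e1 <;>
      rcases hL.cartan_small i hi b hb hbP.1 hbne with e2 | e2 | e2 <;>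
      rcases hL.cartan_small i hi c.1 hc1 hcP.1 hcne with e3 | e3 | e3 <;>
      rw [e1, e2, e3] at hcar <;> first | omega | (rw [e1, e2, e3]; norm_num) | exact absurd e3 hc0
  exact hF.lt_of_omega_lt la (by omega)

/-- A root whose string starts at `k` or later normalises the strings after `k`. -/
theorem norm_strings (J : Set ℕ) {i : ℕ} (hi : i < D.rank) (hiJ : i ∈ J) {k r : ℕ}
    (hr : r < D.nroots) (hrP : PosIn D co J r) (hrne : r ≠ D.simple i) (hk : k ≤ low D i r)
    (b : F) {w : GL D.Idx F} (hw : w ∈ rootClosure D F (Strings D co J i (k + 1))) :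
    xU D r b * w * (xU D r b)⁻¹ ∈ rootClosure D F (Strings D co J i (k + 1)) := by
  refine conj_closure (fun y hy => ?_) hw
  obtain ⟨s, a, hs, ⟨hsP, hsne, hsS⟩, rfl⟩ := hy
  rw [hF.xU_inv hr]
  refine hF.conj_xU_mem hC hr hs (pos_ne_neg hF hr hrP.1 hsP.1) ⟨hsP, hsne, hsS⟩ ?_ b a
  intro hne c hc
  refine ⟨posIn_term hF hC hr hs hrP hsP hc,
    (ne_simple_closed hF hC J hi r hr ⟨hrP, hrne⟩ s hs ⟨hsP, hsne⟩ hne c hc).2, ?_⟩
  by_cases hc0 : D.cartan i c.1 = 0
  · exact Or.inl hc0
  · have := low_lt hF hC hL J hi hiJ hr hs hrP hrne hsP hsne hc hne hc0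
    exact Or.inr (by omega)

/-- The fundamental root element normalises the strings from `k` on. -/
theorem norm_simple (J : Set ℕ) {i : ℕ} (hi : i < D.rank) (hiJ : i ∈ J) {k : ℕ}
    (b : F) {w : GL D.Idx F} (hw : w ∈ rootClosure D F (Strings D co J i k)) :
    xU D (D.simple i) b * w * (xU D (D.simple i) b)⁻¹ ∈ rootClosure D F (Strings D co J i k) := by
  obtain ⟨hip, hin⟩ := hF.simple_lt i hi
  refine conj_closure (fun y hy => ?_) hw
  obtain ⟨s, a, hs, ⟨hsP, hsne, hsS⟩, rfl⟩ := hy
  rw [hF.xU_inv hin]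
  refine hF.conj_xU_mem hC hin hs (pos_ne_neg hF hin hip hsP.1) ⟨hsP, hsne, hsS⟩ ?_ b a
  intro _ c hc
  rcases hL.cartan_small i hi s hs hsP.1 hsne with e | e | e
  · obtain ⟨⟨m, -, hm⟩, -⟩ := hL.term_low i hi s hs hsP.1 e
    rw [hm, List.mem_singleton] at hc
    subst hc
    have e1 : D.cartan i (D.reflectRoot i s) = 1 := by
      rw [hF.cartan_refl i hi s hs i hi, hF.cartan_simple hi, e]; norm_num
    refine ⟨⟨hF.refl_pos i hi s hs hsP.1 hsne, fun j hj hjJ => ?_⟩, fun h => ?_, ?_⟩
    · rw [hF.co_refl i hi s hs j hj, if_neg (fun h => hjJ (by rw [← h]; exact hiJ)),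
        hsP.2 j hj hjJ, sub_zero]
    · rw [show D.reflectRoot i s = D.simple i from h, hF.cartan_simple hi] at e1; norm_num at e1
    · rcases hsS with h | h
      · omega
      · refine Or.inr ?_
        unfold low at h ⊢
        rw [if_pos e1, hF.refl_invol i hi s hs]
        rwa [if_neg (by rw [e]; norm_num)] at h
  · simp [hL.term_zero i hi s hs hsP.1 e] at hc
  · simp [hL.term_high i hi s hs hsP.1 e] at hc

variable [CharP F 2]

omit hC hL in
theorem xU_self {r : ℕ} (hr : r < D.nroots) (a : F) : xU D r a * xU D r a = 1 := by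
  rw [hF.xU_add hr, CharTwo.add_self_eq_zero, hF.xU_zero hr]

/-- An involution `v * x_p(t)` is conjugate to one supported on the roots orthogonal to `p`. -/
theorem kill (J : Set ℕ) {i : ℕ} (hi : i < D.rank) (hiJ : i ∈ J) {t : F} (ht : t ≠ 0) :
    ∀ n k, k + n = D.nroots → ∀ v ∈ rootClosure D F (Strings D co J i k),
      (v * xU D (D.simple i) t) * (v * xU D (D.simple i) t) = 1 →
      ∃ g ∈ rootClosure D F (InSub D co J), ∃ v' ∈ rootClosure D F
        (fun s => PosIn D co J s ∧ D.cartan i s = 0),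
        g * (v * xU D (D.simple i) t) * g⁻¹ = v' * xU D (D.simple i) t := by
  intro n
  induction n with
  | zero =>
    intro k hk v hv _
    refine ⟨1, Subgroup.one_mem _, v, rootClosure_mono (fun s hs h => ⟨h.1, ?_⟩) hv, by group⟩
    refine h.2.2.resolve_right fun hlow => ?_
    have := (low_spec hF hC hL hi hiJ hs h.1 h.2.1).1
    omega
  | succ n ih =>
    intro k hk v hv hu
    by_cases hex : PosIn D co J k ∧ k ≠ D.simple i ∧ D.cartan i k = -1
    swap
    · refine ih (k + 1) (by omega) v (rootClosure_mono (fun s hs h => ⟨h.1, h.2.1, ?_⟩) hv) hu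
      rcases h.2.2 with h0 | h0
      · exact Or.inl h0
      · by_cases hz : D.cartan i s = 0
        · exact Or.inl hz
        refine Or.inr (Nat.lt_of_le_of_ne h0 fun e => hex ?_)
        obtain ⟨-, h1, h2, -, -⟩ := low_spec hF hC hL hi hiJ hs h.1 h.2.1
        rw [← e] at h1 h2
        refine ⟨h1, h2, ?_⟩
        rw [e]
        unfold low
        rcases hL.cartan_small i hi s hs h.1.1 h.2.1 with e1 | e1 | e1
        · rw [if_neg (by rw [e1]; norm_num), e1]
        · exact absurd e1 hz
        · rw [if_pos e1, hF.cartan_refl i hi s hs i hi, hF.cartan_simple hi, e1]; norm_num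
    obtain ⟨hkP, hkne, hkc⟩ := hex
    have hkN : k < D.nroots := by omega
    obtain ⟨hip, hin⟩ := hF.simple_lt i hi
    set k' := D.reflectRoot i k with hk'
    have hk'N : k' < D.nroots := hF.refl_lt i hi k hkN
    have hk'c : D.cartan i k' = 1 := by
      rw [hk', hF.cartan_refl i hi k hkN i hi, hF.cartan_simple hi, hkc]; norm_num
    have hk'P : PosIn D co J k' := ⟨hF.refl_pos i hi k hkN hkP.1 hkne, fun j hj hjJ => by
      rw [hk', hF.co_refl i hi k hkN j hj, if_neg (fun h => hjJ (by rw [← h]; exact hiJ)),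
        hkP.2 j hj hjJ, sub_zero]⟩
    have hk'ne : k' ≠ D.simple i := fun h => by
      rw [h, hF.cartan_simple hi] at hk'c; norm_num at hk'c
    have hlk' : low D i k' = k := by rw [low, if_pos hk'c, hk', hF.refl_invol i hi k hkN]
    have hlk : low D i k = k := by rw [low, if_neg (by rw [hkc]; norm_num)]
    have hkk : k' ≠ k := fun h => by rw [h, hkc] at hk'c; norm_num at hk'c
    obtain ⟨⟨m, hm, hterm⟩, hswap⟩ := hL.term_low i hi k hkN hkP.1 hkc
    rw [← hk'] at hterm hswap
    -- split off the two coordinates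
    obtain ⟨v1, hv1, c1, hc1, rfl⟩ := hF.closure_split hC (A := Strings D co J i k)
      (Q₁ := fun s => Strings D co J i k s ∧ s ≠ k) (Q₂ := (· = k))
      (fun s _ h => (em (s = k)).elim Or.inr fun h' => Or.inl ⟨h, h'⟩)
      (by
        rintro a ha rfl b hb ⟨hbS, -⟩
        refine ⟨pos_ne_neg hF ha hkP.1 hbS.1.1, fun hne c hc => ⟨strings_closed hF hC hL J hi hiJ a
          a ha ⟨hkP, hkne, Or.inr hlk.ge⟩ b hb hbS hne c hc, ?_⟩⟩
        have := (hF.commTerms_lt ha hb hkP.1 hbS.1.1 hc).2.1
        omega) hv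
    obtain ⟨w, hw, d1, hd1, rfl⟩ := hF.closure_split hC (A := fun s => Strings D co J i k s ∧ s ≠ k)
      (Q₁ := Strings D co J i (k + 1)) (Q₂ := (· = k'))
      (by
        rintro s hs ⟨⟨hsP, hsne, hsS⟩, hne⟩
        rcases hsS with h | h
        · exact Or.inl ⟨hsP, hsne, Or.inl h⟩
        rcases Nat.lt_or_eq_of_le h with h | h
        · exact Or.inl ⟨hsP, hsne, Or.inr h⟩
        by_cases e : D.cartan i s = 1
        · rw [low, if_pos e] at h
          exact Or.inr (by rw [hk', h, hF.refl_invol i hi s hs])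
        · rw [low, if_neg e] at h
          exact absurd h.symm hne)
      (by
        rintro a ha rfl b hb hbS
        refine ⟨pos_ne_neg hF ha hk'P.1 hbS.1.1, fun hne c hc => ⟨posIn_term hF hC ha hb hk'P hbS.1 hc,
          (ne_simple_closed hF hC J hi _ ha ⟨hk'P, hk'ne⟩ b hb ⟨hbS.1, hbS.2.1⟩ hne c hc).2, ?_⟩⟩
        by_cases hc0 : D.cartan i c.1 = 0
        · exact Or.inl hc0
        have := low_lt hF hC hL J hi hiJ ha hb hk'P hk'ne hbS.1 hbS.2.1 hc hne hc0
        exact Or.inr (by omega)) hv1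
    obtain ⟨d, rfl⟩ : ∃ d, d1 = xU D k' d :=
      (hF.mem_rootSubgroup_iff hk'N).1 (by rw [hF.rootSubgroup_eq hk'N]; exact hd1)
    obtain ⟨e, rfl⟩ : ∃ e, c1 = xU D k e :=
      (hF.mem_rootSubgroup_iff hkN).1 (by rw [hF.rootSubgroup_eq hkN]; exact hc1)
    -- the commutation rules
    have hm1 : (m : F) = 1 := by
      obtain ⟨q, hq⟩ : ∃ q, m = 2 * q + 1 := ⟨m / 2, by omega⟩
      rw [hq]; push_cast; rw [CharTwo.two_eq_zero, zero_mul, zero_add]
    have hkx : ∀ a : F, xU D k a * xU D (D.simple i) t =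
        xU D (D.simple i) t * xU D k a * xU D k' (t * a) := fun a => by
      rw [hF.xU_comm hC hin hkN hkne (pos_ne_neg hF hin hip hkP.1)]
      simp [cwR, hterm, wU, hm1, CharTwo.neg_eq, hk']
    have hcomm : ∀ a b : F, xU D k b * xU D k' a = xU D k' a * xU D k b := fun a b => by
      rw [hF.xU_comm hC hkN hk'N hkk (pos_ne_neg hF hkN hkP.1 hk'P.1) b a]
      simp [cwR, hswap, wU]
    have hk'x : ∀ a : F, xU D k' a * xU D (D.simple i) t = xU D (D.simple i) t * xU D k' a :=
      fun a => by
        rw [hF.xU_comm hC hin hk'N hk'ne (pos_ne_neg hF hin hip hk'P.1)]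
        simp [cwR, hL.term_high i hi k' hk'N hk'P.1 hk'c, wU]
    set X := xU D (D.simple i) t with hX
    have hXX : X * X = 1 := xU_self hF hin t
    have hXi : X⁻¹ = X := inv_eq_of_mul_eq_one_right hXX
    -- the square
    set q := xU D k' d * xU D k e with hq
    have hqq : q * q = 1 := by
      rw [hq, show xU D k' d * xU D k e * (xU D k' d * xU D k e) =
        xU D k' d * (xU D k e * xU D k' d) * xU D k e by group, hcomm, ← mul_assoc, xU_self hF hk'N,
        one_mul, xU_self hF hkN]
    have hqi : q⁻¹ = q := inv_eq_of_mul_eq_one_right hqq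
    have hw' : X * w * X ∈ rootClosure D F (Strings D co J i (k + 1)) := by
      have := norm_simple hF hC hL J hi hiJ t hw
      rwa [← hX, hXi] at this
    have hqn : q * (X * w * X) * q ∈ rootClosure D F (Strings D co J i (k + 1)) := by
      have h1 := norm_strings hF hC hL J hi hiJ hkN hkP hkne hlk.ge e hw'
      have h2 := norm_strings hF hC hL J hi hiJ hk'N hk'P hk'ne hlk'.ge d h1
      have : xU D k' d * (xU D k e * (X * w * X) * (xU D k e)⁻¹) * (xU D k' d)⁻¹ =
          q * (X * w * X) * q⁻¹ := by rw [hq]; group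
      rwa [this, hqi] at h2
    have hxkx : X * xU D k e * X = xU D k e * xU D k' (t * e) := by
      rw [mul_assoc, hkx, ← mul_assoc, ← mul_assoc, hXX, one_mul]
    have key : w * (q * (X * w * X) * q) * xU D k' (t * e) = 1 := by
      rw [← hu]
      calc w * (q * (X * w * X) * q) * xU D k' (t * e)
          = w * q * (X * w * X) * (xU D k' d * (xU D k e * xU D k' (t * e))) := by
            rw [hq]; simp only [mul_assoc]
        _ = w * q * X * w * (X * xU D k' d) * (X * xU D k e * X) := by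
            rw [← hxkx]; simp only [mul_assoc]
        _ = w * q * X * w * (xU D k' d * X) * (X * xU D k e * X) := by rw [hk'x]
        _ = w * q * X * w * xU D k' d * (X * X) * xU D k e * X := by simp only [mul_assoc]
        _ = w * xU D k' d * xU D k e * X * (w * xU D k' d * xU D k e * X) := by
            rw [hXX, hq]; simp only [mul_assoc, one_mul]
    have hte : t * e = 0 := by
      have hmem : xU D k' (t * e) ∈ rootClosure D F (Strings D co J i (k + 1)) := by
        have h1 := Subgroup.mul_mem _ hw hqn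
        have h2 : xU D k' (t * e) = (w * (q * (X * w * X) * q))⁻¹ :=
          eq_inv_of_mul_eq_one_right key
        rw [h2]
        exact Subgroup.inv_mem _ h1
      refine hF.xU_eq_zero_of_ut hk'N hk'P.1 (hF.above_ut hk'N hk'P.1 ?_)
      refine not_mem hF hC (fun s _ h => h.1.1) (strings_closed hF hC hL J hi hiJ (k + 1)) hk'N
        hk'P.1 (fun h => ?_) hmem (xU_mem_rootClosure (P := (k' ≤ ·)) hk'N le_rfl _)
      rcases h.2.2 with h' | h' <;> omega
    obtain rfl : e = 0 := (mul_eq_zero.1 hte).resolve_left ht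
    rw [hF.xU_zero hkN, mul_one] at hu ⊢
    -- conjugate the upper coordinate away
    set y := xU D k (d / t) with hy
    have hyX : y * X * y⁻¹ = xU D k' d * X := by
      rw [hy, hkx, mul_div_cancel₀ d ht, mul_assoc X, hcomm, ← mul_assoc,
        mul_inv_cancel_right, hk'x]
    have e1 : y * (w * xU D k' d * X) * y⁻¹ = y * w * y⁻¹ * X := by
      calc y * (w * xU D k' d * X) * y⁻¹
          = y * w * y⁻¹ * (y * xU D k' d * y⁻¹) * (y * X * y⁻¹) := by group
        _ = y * w * y⁻¹ * (xU D k' d * xU D k' d) * X := by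
            rw [hyX, hy, hcomm, mul_inv_cancel_right]; simp only [mul_assoc]
        _ = _ := by rw [xU_self hF hk'N, mul_one]
    have hw2 : y * w * y⁻¹ ∈ rootClosure D F (Strings D co J i (k + 1)) :=
      norm_strings hF hC hL J hi hiJ hkN hkP hkne hlk.ge _ hw
    obtain ⟨g, hg, v', hv', e2⟩ := ih (k + 1) (by omega) _ hw2 (by
      rw [← e1, show ∀ a b : GL D.Idx F, a * b * a⁻¹ * (a * b * a⁻¹) = a * (b * b) * a⁻¹ from
        fun a b => by group, hu, mul_one, mul_inv_cancel])
    refine ⟨g * y, Subgroup.mul_mem _ hg (xU_mem_rootClosure hkN hkP.2 _), v', hv', ?_⟩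
    rw [← e2, ← e1]
    group

end CfsgLib.Chev.LacedInvol
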