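import Cfsg.Agent.Lib.Known.LacedInvol.Classes

/-!
# The classes stated with a list of matrices
-/

set_option autoImplicit false
set_option synthInstance.maxSize 4000

namespace CfsgLib.Chev.LacedInvol

open Cfsg.Lie

universe v

variable {D : ChevalleyDatum} {T : Table.Tab} {C : ClassCert} {F : Type v} [Field F]

/-- The representatives, their orders, completeness and pairwise non-conjugacy. -/
theorem classes_listed [CharP F 2] [Finite F] (h : Checked D T C) (hC : CommF.{v} D)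
    (L : List (Matrix D.Idx D.Idx F))
    (hL : L = C.reps.map fun S => ((P D F S : GL D.Idx F) : Matrix D.Idx D.Idx F)) :
    (∀ y : GL D.Idx F, ((y : GL D.Idx F) : Matrix D.Idx D.Idx F) ∈ L →
      y ∈ D.group F ∧ orderOf y = 2) ∧
    (∀ g ∈ D.group F, orderOf g = 2 → ∃ y ∈ D.group F,
      ((y : GL D.Idx F) : Matrix D.Idx D.Idx F) ∈ L ∧ ∃ a ∈ D.group F, a * g * a⁻¹ = y) ∧
    (∀ y₁ ∈ D.group F, ∀ y₂ ∈ D.group F, ((y₁ : GL D.Idx F) : Matrix D.Idx D.Idx F) ∈ L →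
      ((y₂ : GL D.Idx F) : Matrix D.Idx D.Idx F) ∈ L →
      (∃ a ∈ D.group F, a * y₁ * a⁻¹ = y₂) →
      ((y₁ : GL D.Idx F) : Matrix D.Idx D.Idx F) = ((y₂ : GL D.Idx F) : Matrix D.Idx D.Idx F)) := by
  have key : ∀ y : GL D.Idx F, ((y : GL D.Idx F) : Matrix D.Idx D.Idx F) ∈ L ↔
      ∃ k < C.reps.length, y = P D F (C.reps.getD k []) := by
    intro y
    rw [hL, List.mem_map]
    constructor
    · rintro ⟨S, hS, e⟩
      obtain ⟨k, hk, rfl⟩ := List.mem_iff_getElem.1 hS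
      exact ⟨k, hk, by rw [List.getD_eq_getElem _ _ hk]; exact (Units.ext e).symm⟩
    · rintro ⟨k, hk, rfl⟩
      exact ⟨_, List.getElem_mem hk, by rw [List.getD_eq_getElem _ _ hk]⟩
  refine ⟨fun y hy => ?_, fun g hg hg2 => ?_, fun y₁ _ y₂ _ h₁ h₂ hc => ?_⟩
  · obtain ⟨k, hk, rfl⟩ := (key y).1 hy
    exact ⟨(rep_spec (F := F) h hC hk).1, (rep_spec (F := F) h hC hk).2.1⟩
  · obtain ⟨k, hk, a, ha, e⟩ := exists_rep (F := F) h hC hg hg2
    exact ⟨_, (rep_spec (F := F) h hC hk).1, (key _).2 ⟨k, hk, rfl⟩, a, ha, e⟩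
  · obtain ⟨j, hj, rfl⟩ := (key y₁).1 h₁
    obtain ⟨k, hk, rfl⟩ := (key y₂).1 h₂
    rw [rep_inj (F := F) h hC hj hk hc]

end CfsgLib.Chev.LacedInvol
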