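import Cfsg.Agent.Lib.Chev.All
import Cfsg.Agent.Lib.Chev.Twist.Orbit
import Cfsg.Agent.Lib.Known.ChevG2Centralizer

/-!
# Reduction of involutions in characteristic two, simply laced case

An involution of the positive unipotent group of a Levi subsystem `J` is moved by the Weyl group
until some fundamental coordinate `a` is nonzero.  The involution condition then removes every
coordinate at a root not orthogonal to `a`, and a Weyl element carries `a` to a highest root and
the orthogonal roots into a smaller Levi subsystem.  So every involution is conjugate to a product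
of the root elements of a fixed orthogonal cascade.
-/

set_option autoImplicit false
set_option synthInstance.maxSize 4000

namespace CfsgLib.Chev.LacedInvol

open Cfsg.Lie

universe v

variable {D : ChevalleyDatum} {co : ℕ → ℕ → ℤ} {F : Type v} [Field F]

/-- Positive roots in the span of `J`. -/
def PosIn (D : ChevalleyDatum) (co : ℕ → ℕ → ℤ) (J : Set ℕ) (r : ℕ) : Prop :=
  D.nroots / 2 ≤ r ∧ InSub D co J r

/-- A set of roots closed under the commutator terms. -/
def ClosedS (D : ChevalleyDatum) (P : ℕ → Prop) : Prop :=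
  ∀ i < D.nroots, P i → ∀ j < D.nroots, P j → i ≠ j → ∀ c ∈ D.commTerms i j, P c.1

section

variable (hF : Facts D co) (hC : CommF.{v} D)
include hF hC

theorem co_term {i j : ℕ} (hi : i < D.nroots) (hj : j < D.nroots) {c : ℕ × ℤ × ℕ × ℕ}
    (hc : c ∈ D.commTerms i j) :
    c.1 < D.nroots ∧ 0 < c.2.2.1 ∧ 0 < c.2.2.2 ∧
      ∀ m < D.rank, co c.1 m = c.2.2.1 * co i m + c.2.2.2 * co j m := by
  obtain ⟨h1, h2, h3, -⟩ := hF.commTerms_wt hF.isWeight_omega hi hj hc
  refine ⟨h1, h2, h3, fun m hm => ?_⟩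
  have := (hF.commTerms_wt (hF.isWeight_co hm) hi hj hc).2.2.2
  simpa using this

theorem inSub_term {J : Set ℕ} {i j : ℕ} (hi : i < D.nroots) (hj : j < D.nroots)
    (hiJ : InSub D co J i) (hjJ : InSub D co J j) {c : ℕ × ℤ × ℕ × ℕ} (hc : c ∈ D.commTerms i j) :
    InSub D co J c.1 := fun m hm hmJ => by
  rw [(co_term hF hC hi hj hc).2.2.2 m hm, hiJ m hm hmJ, hjJ m hm hmJ]
  simp

theorem posIn_term {J : Set ℕ} {i j : ℕ} (hi : i < D.nroots) (hj : j < D.nroots)
    (hiJ : PosIn D co J i) (hjJ : PosIn D co J j) {c : ℕ × ℤ × ℕ × ℕ} (hc : c ∈ D.commTerms i j) :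
    PosIn D co J c.1 :=
  ⟨le_trans hiJ.1 (hF.commTerms_lt hi hj hiJ.1 hjJ.1 hc).2.1.le,
    inSub_term hF hC hi hj hiJ.2 hjJ.2 hc⟩

/-- The closure of a closed positive set meets the roots from `r` on above `r`, if `r` is outside. -/
theorem not_mem {P : ℕ → Prop} (hP : ∀ s < D.nroots, P s → D.nroots / 2 ≤ s) (hcl : ClosedS D P)
    {r : ℕ} (hr : r < D.nroots) (hrp : D.nroots / 2 ≤ r) (hrP : ¬ P r) {g : GL D.Idx F}
    (hg : g ∈ rootClosure D F P) (hge : g ∈ rootClosure D F (r ≤ ·)) :
    g ∈ rootClosure D F (r + 1 ≤ ·) := by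
  suffices H : ∀ n k, k + n = r + 1 → D.nroots / 2 ≤ k →
      ∀ g ∈ rootClosure D F (fun s => P s ∧ k ≤ s), g ∈ rootClosure D F (r ≤ ·) →
        g ∈ rootClosure D F (r + 1 ≤ ·) from
    H (r + 1 - D.nroots / 2) (D.nroots / 2) (by omega) le_rfl g
      (rootClosure_mono (fun s hs h => ⟨h, hP s hs h⟩) hg) hge
  intro n
  induction n with
  | zero =>
    intro k hk _ g hg _
    exact rootClosure_mono (fun s _ h => by have := h.2; omega) hg
  | succ n ih =>
    intro k hk hkp g hg hge
    by_cases hPk : P k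
    swap
    · exact ih (k + 1) (by omega) (by omega) g (rootClosure_mono (fun s _ h =>
        ⟨h.1, Nat.lt_of_le_of_ne h.2 fun e => hPk (e ▸ h.1)⟩) hg) hge
    have hkr : k < r := Nat.lt_of_le_of_ne (by omega) fun e => hrP (e ▸ hPk)
    obtain ⟨a, ha, c, hc, rfl⟩ := hF.closure_split hC (A := fun s => P s ∧ k ≤ s)
      (Q₁ := fun s => P s ∧ k + 1 ≤ s) (Q₂ := (· = k))
      (fun s _ h => (Nat.lt_or_eq_of_le h.2).imp (fun h' => ⟨h.1, h'⟩) Eq.symm)
      (by
        rintro i hi rfl j hj ⟨hj1, hj2⟩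
        refine ⟨fun e => ?_, fun hne c hc => ⟨hcl i hi hPk j hj hj1 hne c hc, ?_⟩⟩
        · have := (hF.neg_lt_half hi).not.2 (by omega)
          have := hP j hj hj1
          omega
        · have := (hF.commTerms_lt hi hj hkp (hP j hj hj1) hc).2.1
          omega) hg
    obtain ⟨t, rfl⟩ : ∃ t, c = xU D k t :=
      (hF.mem_rootSubgroup_iff (by omega)).1 (by rw [hF.rootSubgroup_eq (by omega)]; exact hc)
    have ha' : a ∈ rootClosure D F (k + 1 ≤ ·) := rootClosure_mono (fun s _ h => h.2) ha
    have ht : t = 0 := by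
      refine hF.xU_eq_zero_of_ut (by omega) hkp ?_
      have e : xU D k t = a⁻¹ * (a * xU D k t) := by group
      rw [e]
      exact hF.above_ut (by omega) hkp (Subgroup.mul_mem _ (Subgroup.inv_mem _ ha')
        (rootClosure_mono (fun s _ h => by omega) hge))
    subst ht
    rw [hF.xU_zero (by omega), mul_one] at hge ⊢
    exact ih (k + 1) (by omega) (by omega) a ha hge

/-- The first nonzero coordinate. -/
theorem exists_first {P : ℕ → Prop} (hP : ∀ s < D.nroots, P s → D.nroots / 2 ≤ s)
    (hcl : ClosedS D P) {g : GL D.Idx F} (hg : g ∈ rootClosure D F P) (h1 : g ≠ 1) :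
    ∃ r, r < D.nroots ∧ P r ∧ g ∈ rootClosure D F (r ≤ ·) ∧ g ∉ rootClosure D F (r + 1 ≤ ·) := by
  classical
  have hbot : g ∉ rootClosure D F (D.nroots ≤ ·) := by
    intro h
    refine h1 ?_
    rw [← Subgroup.mem_bot]
    refine (Subgroup.closure_le _).2 ?_ h
    rintro x ⟨s, t, hs, hps, rfl⟩
    omega
  have hex : ∃ r, g ∉ rootClosure D F (r + 1 ≤ ·) :=
    ⟨D.nroots - 1, fun h => hbot (rootClosure_mono (fun s _ hs => by omega) h)⟩
  obtain ⟨r, hnot, hmin⟩ : ∃ r, g ∉ rootClosure D F (r + 1 ≤ ·) ∧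
      ∀ m < r, g ∈ rootClosure D F (m + 1 ≤ ·) :=
    ⟨Nat.find hex, Nat.find_spec hex, fun m hm => not_not.1 (Nat.find_min hex hm)⟩
  have hge0 : g ∈ rootClosure D F (D.nroots / 2 ≤ ·) := rootClosure_mono hP hg
  have hr2 : D.nroots / 2 ≤ r := by
    by_contra hc
    exact hnot (rootClosure_mono (fun s _ hs => by omega) hge0)
  have hge : g ∈ rootClosure D F (r ≤ ·) := by
    rcases Nat.eq_zero_or_pos r with rfl | hr0
    · exact rootClosure_mono (fun s _ _ => Nat.zero_le s) hge0
    · exact rootClosure_mono (fun s _ hs => by omega) (hmin (r - 1) (by omega))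
  have hr : r < D.nroots := by
    by_contra hc
    exact hbot (rootClosure_mono (fun s _ hs => by omega) hge)
  exact ⟨r, hr, by_contra fun hrP => hnot (not_mem hF hC hP hcl hr hr2 hrP hg hge), hge, hnot⟩

end

/-- The hypotheses read off from the tables. -/
structure Laced (D : ChevalleyDatum) : Prop where
  cartan_small : ∀ i < D.rank, ∀ s < D.nroots, D.nroots / 2 ≤ s → s ≠ D.simple i →
    D.cartan i s = -1 ∨ D.cartan i s = 0 ∨ D.cartan i s = 1
  term_low : ∀ i < D.rank, ∀ s < D.nroots, D.nroots / 2 ≤ s → D.cartan i s = -1 →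
    (∃ c : ℤ, c % 2 = 1 ∧ D.commTerms (D.simple i) s = [(D.reflectRoot i s, c, 1, 1)]) ∧
      D.commTerms s (D.reflectRoot i s) = []
  term_zero : ∀ i < D.rank, ∀ s < D.nroots, D.nroots / 2 ≤ s → D.cartan i s = 0 →
    D.commTerms (D.simple i) s = []
  term_high : ∀ i < D.rank, ∀ s < D.nroots, D.nroots / 2 ≤ s → D.cartan i s = 1 →
    D.commTerms (D.simple i) s = []
  term_one : ∀ r < D.nroots, D.nroots / 2 ≤ r → ∀ s < D.nroots, D.nroots / 2 ≤ s →
    ∀ c ∈ D.commTerms r s, c.2.2.1 = 1 ∧ c.2.2.2 = 1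

variable (hF : Facts D co) (hC : CommF.{v} D) (hL : Laced D)
include hF hC hL

omit hL in
theorem posIn_closed (J : Set ℕ) : ClosedS D (PosIn D co J) :=
  fun _ hi hiP _ hj hjP _ _ hc => posIn_term hF hC hi hj hiP hjP hc

omit hL in
/-- The roots other than a fundamental one form a closed set. -/
theorem ne_simple_closed (J : Set ℕ) {i : ℕ} (hi : i < D.rank) :
    ClosedS D (fun s => PosIn D co J s ∧ s ≠ D.simple i) := by
  rintro a ha ⟨haP, -⟩ b hb ⟨hbP, -⟩ _ c hc
  refine ⟨posIn_term hF hC ha hb haP hbP hc, fun e => ?_⟩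
  obtain ⟨-, h1, h2, -⟩ := co_term hF hC ha hb hc
  have hw := (hF.commTerms_wt hF.isWeight_omega ha hb hc).2.2.2
  -- a sum of two positive roots has degree at least two
  have e2 : ∀ x < D.nroots, D.nroots / 2 ≤ x → ∃ m < D.rank, 0 < co x m := fun x hx hxp => by
    by_contra hcon
    push Not at hcon
    have : omega D co x ≤ 0 := by
      refine (List.sum_le_card_nsmul _ 0 fun y hy => ?_).trans (by simp)
      obtain ⟨m, hm, rfl⟩ := List.mem_map.1 hy
      exact mul_nonpos_of_nonpos_of_nonneg (hcon m (List.mem_range.1 hm)) (pow_nonneg (by norm_num) _)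
    have := hF.omega_pos hx hxp
    omega
  obtain ⟨ma, hma, pa⟩ := e2 a ha haP.1
  obtain ⟨mb, hmb, pb⟩ := e2 b hb hbP.1
  have ea := (co_term hF hC ha hb hc).2.2.2 ma hma
  have eb := (co_term hF hC ha hb hc).2.2.2 mb hmb
  rw [e, hF.co_simple i hi ma hma] at ea
  rw [e, hF.co_simple i hi mb hmb] at eb
  have na := hF.co_nonneg b hb hbP.1 ma hma
  have nb := hF.co_nonneg a ha haP.1 mb hmb
  by_cases h : ma = mb
  · subst h
    split_ifs at ea <;> nlinarith
  · split_ifs at ea eb with h3 h4 <;> first | omega | nlinarith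

omit hL in
/-- Lifting a conjugation by a fundamental reflection to root closures. -/
theorem nS_conj_mem {P Q : ℕ → Prop} (i : Fin D.rank)
    (h : ∀ s < D.nroots, P s → Q (D.reflectRoot i.val s)) {g : GL D.Idx F}
    (hg : g ∈ rootClosure D F P) : nS D F i * g * (nS D F i)⁻¹ ∈ rootClosure D F Q := by
  refine conj_closure (fun y hy => ?_) hg
  obtain ⟨s, t, hs, hPs, rfl⟩ := hy
  obtain ⟨c, -, hc, -⟩ := hF.permAct_nS (F := F) i ⟨s, hs⟩
  rw [hc, hF.sP_val]
  exact xU_mem_rootClosure (hF.refl_lt i.val i.isLt s hs) (h s hs hPs) _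

omit hL in
/-- If no fundamental coordinate is present, a reflection lowers the first nonzero coordinate. -/
theorem descend (J : Set ℕ) {g : GL D.Idx F} (hg : g ∈ rootClosure D F (PosIn D co J)) (h1 : g ≠ 1)
    (hall : ∀ i < D.rank, i ∈ J → g ∈ rootClosure D F (fun s => PosIn D co J s ∧ s ≠ D.simple i))
    {r : ℕ} (hge : g ∈ rootClosure D F (r ≤ ·)) (hnot : g ∉ rootClosure D F (r + 1 ≤ ·)) :
    ∃ i : Fin D.rank, i.val ∈ J ∧ nS D F i * g * (nS D F i)⁻¹ ∈ rootClosure D F (PosIn D co J) ∧
      ∃ r' < r, nS D F i * g * (nS D F i)⁻¹ ∉ rootClosure D F (r' + 1 ≤ ·) := by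
  have hr : r < D.nroots := by
    by_contra hc
    refine h1 ?_
    rw [← Subgroup.mem_bot]
    refine (Subgroup.closure_le _).2 ?_ hge
    rintro x ⟨s, t, hs, hps, rfl⟩
    omega
  have hrp : D.nroots / 2 ≤ r := by
    by_contra hc
    exact hnot (rootClosure_mono (fun s _ h => by have := h.1; omega) hg)
  have hrP : PosIn D co J r := by_contra fun hc => hnot
    (not_mem hF hC (fun s _ h => h.1) (posIn_closed hF hC J) hr hrp hc hg hge)
  have hns : ∀ i < D.rank, r ≠ D.simple i := by
    intro i hi e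
    by_cases hiJ : i ∈ J
    · exact hnot (not_mem hF hC (fun s _ h => h.1.1) (ne_simple_closed hF hC J hi) hr hrp
        (fun h => h.2 e) (hall i hi hiJ) hge)
    · have := hrP.2 i hi hiJ
      rw [e, hF.co_simple i hi i hi, if_pos rfl] at this
      omega
  obtain ⟨i, hi, hiJ, hp', hlt, hJ'⟩ := hF.sub_step hr hrp hrP.2 hns
  set fi : Fin D.rank := ⟨i, hi⟩
  have hmap : ∀ s < D.nroots, PosIn D co J s ∧ s ≠ D.simple i → PosIn D co J (D.reflectRoot i s) := by
    rintro s hs ⟨hsP, hne⟩
    refine ⟨hF.refl_pos i hi s hs hsP.1 hne, fun m hm hmJ => ?_⟩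
    rw [hF.co_refl i hi s hs m hm, if_neg (fun e => hmJ (by rw [← e]; exact hiJ)),
      hsP.2 m hm hmJ, sub_zero]
  refine ⟨fi, hiJ, nS_conj_mem hF hC fi hmap (hall i hi hiJ), D.reflectRoot i r, hlt, fun hmem => ?_⟩
  -- split off the first coordinate
  have hg' : g ∈ rootClosure D F (fun s => PosIn D co J s ∧ r ≤ s) := by
    have key : ∀ n k, k + n = r → D.nroots / 2 ≤ k →
        ∀ g ∈ rootClosure D F (fun s => PosIn D co J s ∧ k ≤ s), g ∈ rootClosure D F (r ≤ ·) →
          g ∈ rootClosure D F (fun s => PosIn D co J s ∧ r ≤ s) := by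
      intro n
      induction n with
      | zero => intro k hk _ g hg _; rw [← hk]; simpa using hg
      | succ n ih =>
        intro k hk hkp g hg hge
        obtain ⟨a, ha, c, hc, rfl⟩ := hF.closure_split hC
          (A := fun s => PosIn D co J s ∧ k ≤ s) (Q₁ := fun s => PosIn D co J s ∧ k + 1 ≤ s)
          (Q₂ := fun s => s = k ∧ PosIn D co J s)
          (fun s _ h => (Nat.lt_or_eq_of_le h.2).imp (fun h' => ⟨h.1, h'⟩) fun e => ⟨e.symm, h.1⟩)
          (by
            rintro x hx ⟨rfl, hxP⟩ y hy ⟨hyP, hy2⟩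
            refine ⟨fun e => ?_, fun _ c hc => ⟨posIn_term hF hC hx hy hxP hyP hc, ?_⟩⟩
            · have := (hF.neg_lt_half hx).not.2 (by omega)
              have := hyP.1
              omega
            · have := (hF.commTerms_lt hx hy hxP.1 hyP.1 hc).2.1
              omega) hg
        have hkN : k < D.nroots := by omega
        obtain ⟨t, rfl⟩ : ∃ t, c = xU D k t := (hF.mem_rootSubgroup_iff hkN).1 (by
          rw [hF.rootSubgroup_eq hkN]; exact rootClosure_mono (fun s _ h => h.1) hc)
        have ht : t = 0 := by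
          refine hF.xU_eq_zero_of_ut hkN hkp ?_
          rw [show xU D k t = a⁻¹ * (a * xU D k t) by group]
          exact hF.above_ut hkN hkp (Subgroup.mul_mem _
            (Subgroup.inv_mem _ (rootClosure_mono (fun s _ h => h.2) ha))
            (rootClosure_mono (fun s _ h => by omega) hge))
        subst ht
        rw [hF.xU_zero hkN, mul_one] at hge ⊢
        exact ih (k + 1) (by omega) (by omega) a ha hge
    exact key (r - D.nroots / 2) (D.nroots / 2) (by omega) le_rfl g
      (rootClosure_mono (fun s _ h => ⟨h, h.1⟩) hg) hge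
  obtain ⟨w, hw, c, hc, rfl⟩ := hF.closure_split hC (A := fun s => PosIn D co J s ∧ r ≤ s)
    (Q₁ := fun s => PosIn D co J s ∧ r + 1 ≤ s) (Q₂ := (· = r))
    (fun s _ h => (Nat.lt_or_eq_of_le h.2).imp (fun h' => ⟨h.1, h'⟩) Eq.symm)
    (by
      rintro x hx rfl y hy ⟨hyP, hy2⟩
      refine ⟨fun e => ?_, fun _ c hc => ⟨posIn_term hF hC hx hy hrP hyP hc, ?_⟩⟩
      · have := (hF.neg_lt_half hx).not.2 (by omega)
        have := hyP.1
        omega
      · have := (hF.commTerms_lt hx hy hrP.1 hyP.1 hc).2.1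
        omega) hg'
  obtain ⟨t, rfl⟩ : ∃ t, c = xU D r t :=
    (hF.mem_rootSubgroup_iff hr).1 (by rw [hF.rootSubgroup_eq hr]; exact hc)
  obtain ⟨e, he, hconj, -⟩ := hF.permAct_nS (F := F) fi ⟨r, hr⟩
  set n := nS D F fi
  set r' := D.reflectRoot i r with hr'
  have e1 : n * (w * xU D r t) * n⁻¹ = n * w * n⁻¹ * xU D r' (e * t) := by
    have := hconj t
    rw [hF.sP_val] at this
    rw [← this]
    group
  rw [e1] at hmem
  set Q : ℕ → Prop := fun s => D.nroots / 2 ≤ s ∧ PosIn D co J (D.reflectRoot i s) ∧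
    r + 1 ≤ D.reflectRoot i s with hQ
  have hwQ : n * w * n⁻¹ ∈ rootClosure D F Q := by
    refine nS_conj_mem hF hC fi (fun s hs hsP => ?_) hw
    show Q (D.reflectRoot i s)
    refine ⟨hF.refl_pos i hi s hs hsP.1.1 fun e => ?_, ?_⟩
    · have : D.simple i < r := by
        have h1 := hF.refl_lt i hi r hr
        by_contra hcon
        rcases Nat.lt_or_eq_of_le (not_lt.1 hcon) with h | h
        · have hco := hF.omega_mono h (hF.simple_lt' hi)
          have : omega D co (D.simple i) ≤ omega D co r := by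
            obtain ⟨m, hm, hm0⟩ : ∃ m < D.rank, co r m ≠ 0 ∧ m = i := by
              refine ⟨i, hi, fun h0 => ?_, rfl⟩
              have hge' : omega D co r ≤ omega D co r' := by
                refine List.sum_le_sum fun j hj => ?_
                rw [List.mem_range] at hj
                refine mul_le_mul_of_nonneg_right ?_ (pow_nonneg (by norm_num) _)
                by_cases hji : i = j
                · subst hji
                  rw [h0]
                  exact hF.co_nonneg r' h1 hp' i hi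
                · rw [hr', hF.co_refl i hi r hr j hj, if_neg hji, sub_zero]
              have := hF.omega_mono hlt hr
              omega
            obtain ⟨hm0, rfl⟩ := hm0
            refine List.sum_le_sum fun j hj => ?_
            rw [List.mem_range] at hj
            refine mul_le_mul_of_nonneg_right ?_ (pow_nonneg (by norm_num) _)
            rw [hF.co_simple m hi j hj]
            have := hF.co_nonneg r hr hrp j hj
            split_ifs with h
            · subst h; omega
            · exact this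
          omega
        · exact hns i hi h
      have := hsP.2
      omega
    · rw [hF.refl_invol i hi s hs]
      exact ⟨hsP.1, hsP.2⟩
  have hQcl : ClosedS D Q := by
    rintro a ha ⟨ha1, ha2, ha3⟩ b hb ⟨hb1, hb2, hb3⟩ _ c hc
    obtain ⟨hc1, k1, k2, hco⟩ := co_term hF hC ha hb hc
    have hc0 := hF.refl_lt i hi c.1 hc1
    have hcp : D.nroots / 2 ≤ c.1 := le_trans ha1 (hF.commTerms_lt ha hb ha1 hb1 hc).2.1.le
    have hlin : ∀ m < D.rank, co (D.reflectRoot i c.1) m =
        c.2.2.1 * co (D.reflectRoot i a) m + c.2.2.2 * co (D.reflectRoot i b) m := by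
      intro m hm
      rw [hF.co_refl i hi c.1 hc1 m hm, hF.co_refl i hi a ha m hm, hF.co_refl i hi b hb m hm, hco m hm]
      split_ifs with h
      · subst h
        have := (hF.commTerms_wt (hF.isWeight_cartan hi) ha hb hc).2.2.2
        simp only [nsmul_eq_mul] at this
        rw [this]; ring
      · ring
    have hom : omega D co (D.reflectRoot i c.1) =
        c.2.2.1 * omega D co (D.reflectRoot i a) + c.2.2.2 * omega D co (D.reflectRoot i b) := by
      simp only [omega]
      rw [← List.sum_map_mul_left, ← List.sum_map_mul_left, ← List.sum_map_add]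
      refine congrArg List.sum (List.map_congr_left fun m hm => ?_)
      rw [hlin m (List.mem_range.1 hm)]; ring
    have hpa := hF.omega_pos (hF.refl_lt i hi a ha) ha2.1
    have hpb := hF.omega_pos (hF.refl_lt i hi b hb) hb2.1
    have hk1 : (1 : ℤ) ≤ c.2.2.1 := by exact_mod_cast k1
    have hk2 : (1 : ℤ) ≤ c.2.2.2 := by exact_mod_cast k2
    have hgt : omega D co (D.reflectRoot i a) < omega D co (D.reflectRoot i c.1) := by
      rw [hom]; nlinarith
    have hlt' := hF.lt_of_omega_lt (hF.refl_lt i hi a ha) hgt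
    refine ⟨hcp, ⟨le_trans ha2.1 hlt'.le, fun m hm hmJ => ?_⟩, by omega⟩
    rw [hlin m hm, ha2.2 m hm hmJ, hb2.2 m hm hmJ]; simp
  have hr'Q : ¬ Q r' := fun h => by
    have := h.2.2
    rw [hr', hF.refl_invol i hi r hr] at this
    omega
  have hr'N : r' < D.nroots := hF.refl_lt i hi r hr
  have hge' : n * w * n⁻¹ ∈ rootClosure D F (r' ≤ ·) := by
    have := Subgroup.mul_mem _ (rootClosure_mono (Q := (r' ≤ ·)) (fun s _ h => by omega) hmem)
      (Subgroup.inv_mem _ (xU_mem_rootClosure (P := (r' ≤ ·)) hr'N le_rfl (e * t)))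
    rwa [mul_inv_cancel_right] at this
  have h2 := Subgroup.mul_mem _ (Subgroup.inv_mem _
    (not_mem hF hC (fun s _ h => h.1) hQcl hr'N hp' hr'Q hwQ hge')) hmem
  rw [inv_mul_cancel_left] at h2
  have ht : t = 0 := (mul_eq_zero.1 (hF.xU_eq_zero_of_ut hr'N hp' (hF.above_ut hr'N hp' h2))).resolve_left he
  subst ht
  refine hnot ?_
  rw [hF.xU_zero hr, mul_one]
  exact rootClosure_mono (fun s _ h => h.2) hw

/-- The lower root of a string in the direction of the `i`-th fundamental root. -/
def low (D : ChevalleyDatum) (i s : ℕ) : ℕ := if D.cartan i s = 1 then D.reflectRoot i s else s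

/-- The roots orthogonal to `p_i` and the strings from `k` on. -/
def Strings (D : ChevalleyDatum) (co : ℕ → ℕ → ℤ) (J : Set ℕ) (i k s : ℕ) : Prop :=
  PosIn D co J s ∧ s ≠ D.simple i ∧ (D.cartan i s = 0 ∨ k ≤ low D i s)

theorem low_spec {i : ℕ} (hi : i < D.rank) {J : Set ℕ} (hiJ : i ∈ J) {s : ℕ} (hs : s < D.nroots)
    (hsP : PosIn D co J s) (hne : s ≠ D.simple i) :
    low D i s < D.nroots ∧ PosIn D co J (low D i s) ∧ low D i s ≠ D.simple i ∧ low D i s ≤ s ∧
      omega D co (low D i s) = omega D co s -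
        (if D.cartan i s = 1 then 64 ^ (D.rank - 1 - i) else 0) := by
  unfold low
  split_ifs with h
  · have hp := hF.refl_pos i hi s hs hsP.1 hne
    have hlt := hF.refl_lt i hi s hs
    have hom : omega D co (D.reflectRoot i s) = omega D co s - 64 ^ (D.rank - 1 - i) := by
      have : ∀ l : List ℕ, l.Nodup → (∀ m ∈ l, m < D.rank) →
          (l.map fun m => co (D.reflectRoot i s) m * (64 : ℤ) ^ (D.rank - 1 - m)).sum =
          (l.map fun m => co s m * (64 : ℤ) ^ (D.rank - 1 - m)).sum -
            (if i ∈ l then 64 ^ (D.rank - 1 - i) else 0) := by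
        intro l
        induction l with
        | nil => simp
        | cons m l ih =>
          intro hnd hl
          rw [List.nodup_cons] at hnd
          simp only [List.map_cons, List.sum_cons]
          rw [ih hnd.2 (fun x hx => hl x (List.mem_cons_of_mem _ hx)),
            hF.co_refl i hi s hs m (hl m (by simp))]
          by_cases him : i = m
          · subst him
            simp [h, hnd.1]
            ring
          · simp [him]
            ring
      have h2 := this (List.range D.rank) List.nodup_range (fun m hm => List.mem_range.1 hm)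
      rw [if_pos (List.mem_range.2 hi)] at h2
      exact h2
    have hlt' : D.reflectRoot i s < s := hF.lt_of_omega_lt hlt (by
      rw [hom]; exact sub_lt_self _ (by positivity))
    refine ⟨hlt, ⟨hp, fun m hm hmJ => ?_⟩, fun e => ?_, hlt'.le, hom⟩
    · rw [hF.co_refl i hi s hs m hm, if_neg (fun e => hmJ (by rw [← e]; exact hiJ)),
        hsP.2 m hm hmJ, sub_zero]
    · have := hF.refl_invol i hi s hs
      rw [e] at this
      have h' := hF.cartan_refl i hi s hs i hi
      rw [e, hF.cartan_simple hi, h] at h'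
      omega
  · exact ⟨hs, hsP, hne, le_rfl, by simp⟩

omit hC in
theorem cartan_cases {i s : ℕ} (hi : i < D.rank) (hs : s < D.nroots) (hp : D.nroots / 2 ≤ s) :
    s = D.simple i ∨ D.cartan i s = -1 ∨ D.cartan i s = 0 ∨ D.cartan i s = 1 := by
  have _ := hF
  by_cases h : s = D.simple i
  · exact Or.inl h
  · exact Or.inr (hL.cartan_small i hi s hs hp h)

theorem strings_closed (J : Set ℕ) {i : ℕ} (hi : i < D.rank) (hiJ : i ∈ J) (k : ℕ) :
    ClosedS D (Strings D co J i k) := by
  rintro a ha ⟨haP, hane, haS⟩ b hb ⟨hbP, hbne, hbS⟩ hab c hc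
  obtain ⟨hc1, k1, k2, hco⟩ := co_term hF hC ha hb hc
  have hcP := posIn_term hF hC ha hb haP hbP hc
  have hcne : c.1 ≠ D.simple i :=
    (ne_simple_closed hF hC J hi a ha ⟨haP, hane⟩ b hb ⟨hbP, hbne⟩ hab c hc).2
  obtain ⟨j1, j2⟩ := hL.term_one a ha haP.1 b hb hbP.1 c hc
  refine ⟨hcP, hcne, ?_⟩
  by_cases hc0 : D.cartan i c.1 = 0
  · exact Or.inl hc0
  right
  have hcar := (hF.commTerms_wt (hF.isWeight_cartan hi) ha hb hc).2.2.2
  have hom := (hF.commTerms_wt hF.isWeight_omega ha hb hc).2.2.2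
  simp only [j1, j2, one_smul] at hcar hom
  obtain ⟨la, -, -, -, oa⟩ := low_spec hF hC hL hi hiJ ha haP hane
  obtain ⟨lb, -, -, -, ob⟩ := low_spec hF hC hL hi hiJ hb hbP hbne
  obtain ⟨lc, -, -, -, oc⟩ := low_spec hF hC hL hi hiJ hc1 hcP hcne
  have pa := hF.omega_pos la (low_spec hF hC hL hi hiJ ha haP hane).2.1.1
  have pb := hF.omega_pos lb (low_spec hF hC hL hi hiJ hb hbP hbne).2.1.1
  have hsum : omega D co (low D i c.1) = omega D co (low D i a) + omega D co (low D i b) := by
    rw [oc, oa, ob, hom]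
    rcases hL.cartan_small i hi a ha haP.1 hane with e1 | e1 | e1 <;>
      rcases hL.cartan_small i hi b hb hbP.1 hbne with e2 | e2 | e2 <;>
      rcases hL.cartan_small i hi c.1 hc1 hcP.1 hcne with e3 | e3 | e3 <;>
      rw [e1, e2, e3] at hcar <;> first | omega | (rw [e1, e2, e3]; norm_num) | exact absurd e3 hc0
  have h1 := hF.lt_of_omega_lt la (s := low D i c.1) (by omega)
  have h2 := hF.lt_of_omega_lt lb (s := low D i c.1) (by omega)
  rcases haS with h | h <;> rcases hbS with h' | h'
  · exact absurd (by rw [hcar, h, h', add_zero]) hc0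
  all_goals omega

end CfsgLib.Chev.LacedInvol
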